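import Cfsg.Agent.GH.Defs
import Cfsg.Agent.ONType.Sit
import Cfsg.Prelude.Def_Spor_ON

/-!
# S1730 (simple groups of 2-rank exactly 3): the skeleton

One universe polymorphic proposition per missing piece; `main` is sorry-free.
-/

set_option autoImplicit false

open Cfsg Cfsg.Agent

namespace Cfsg.Agent.RankThree.Assemble

universe u

/-- The conclusion of S1730. -/
def Concl (G : Type u) [Group G] : Prop :=
  (∃ (F : Type) (_ : Field F) (_ : Fintype F), Odd (Fintype.card F) ∧ Nonempty (G ≃* ↥(Cfsg.Lie.chevG2.group F))) ∨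
    (∃ (K : Type) (_ : Field K) (_ : Fintype K) (q : ℕ), Odd q ∧ Fintype.card K = q ^ 3 ∧ Nonempty (G ≃* ↥(Cfsg.Lie.twistedD4 K q))) ∨
    Cfsg.Lie.IsoRee G ∨
    (∃ (F : Type) (_ : Field F) (_ : Fintype F), Fintype.card F = 8 ∧
      (Nonempty (G ≃* Matrix.ProjectiveSpecialLinearGroup (Fin 2) F) ∨ Nonempty (G ≃* ↥(Cfsg.Lie.Sz F 4)) ∨
        ∃ (E : Type) (_ : Field E) (_ : Fintype E), Fintype.card E = 64 ∧ Nonempty (G ≃* Cfsg.PSU 3 E 8))) ∨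
    Cfsg.Spor.IsoJ1 G ∨ Cfsg.Spor.IsoM12 G ∨ Cfsg.Spor.IsoON G

/-- The simple groups of sectional 2-rank at most 4 and 2-rank at least 3 (literally `GH.AssemblyK4.K4r`). -/
def K4x (X : Type u) [Group X] : Prop :=
  GH.Defs.IsU34 X ∨ GH.Defs.K3 X ∨ GH.Defs.IsL216 X ∨ GH.Defs.IsL34 X ∨
    (∃ n, 8 ≤ n ∧ n ≤ 11 ∧ GH.Defs.IsAlt n X) ∨
    GH.Defs.IsSp4odd X ∨ GH.Defs.IsL4odd X ∨ GH.Defs.IsU4odd X ∨ GH.Defs.IsL5odd X ∨ GH.Defs.IsU5odd X ∨
    (GH.Defs.IsG2odd X ∧ GH.Defs.AllG2 X) ∨ (GH.Defs.IsD4odd X ∧ GH.Defs.AllG2 X) ∨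
    Spor.IsoM12 X ∨ Spor.IsoM22 X ∨ Spor.IsoM23 X ∨ Spor.IsoJ2 X ∨ Spor.IsoJ3 X ∨ GH.Defs.HasAltCover X

/-- (GH) simple groups of sectional 2-rank at most 4, at isomorphism level (`GH.FinalInd.k4_aux`, second part). -/
def PropGH : Prop :=
  ∀ (G : Type u) [Group G] [Finite G] [IsSimpleGroup G], ¬ IsMulCommutative G →
    ¬ Cfsg.PRankLE 2 2 G → Cfsg.SectionalPRankLE 2 4 G → K4x G

/-- (FILTER) the members of `K4` of 2-rank exactly 3. -/
def PropFilter : Prop :=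
  ∀ (G : Type u) [Group G] [Finite G], Cfsg.PRankLE 2 3 G → ¬ Cfsg.PRankLE 2 2 G → K4x G → Concl G

/-- (B) sectional 2-rank at least 5: fusion analysis. `B0`, `B2`, `B4`, `B7`, `B8`. -/
def PropB : Prop :=
  ∀ (G : Type u) [Group G] [Finite G] [IsSimpleGroup G], ¬ IsMulCommutative G →
    Cfsg.PRankLE 2 3 G → ¬ Cfsg.PRankLE 2 2 G → ¬ Cfsg.SectionalPRankLE 2 4 G →
    (∃ H : Subgroup G, Cfsg.IsStronglyEmbedded H) ∨
      ∃ (n : ℕ) (S : Sylow 2 G) (T : Subgroup G), Cfsg.Agent.ONType.Sit.Frame n S T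

/-- (SE) strongly embedded subgroup and 2-rank 3: `L₂(8)`, `Sz(8)`, `U₃(8)` (S0222 and identifications). -/
def PropSE : Prop :=
  ∀ (G : Type u) [Group G] [Finite G] [IsSimpleGroup G], ¬ IsMulCommutative G →
    Cfsg.PRankLE 2 3 G → ¬ Cfsg.PRankLE 2 2 G → (∃ H : Subgroup G, Cfsg.IsStronglyEmbedded H) → Concl G

/-- (ON) the O'Nan branch. -/
def PropON : Prop :=
  ∀ (G : Type u) [Group G] [Finite G] [IsSimpleGroup G] (n : ℕ) (S : Sylow 2 G) (T : Subgroup G),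
    Cfsg.Agent.ONType.Sit.Frame n S T → (∃ H : Subgroup G, Cfsg.IsStronglyEmbedded H) ∨ Cfsg.Spor.IsoON G

/-- **S1730 from its branches.** -/
theorem main (hGH : PropGH.{u}) (hF : PropFilter.{u}) (hB : PropB.{u}) (hSE : PropSE.{u}) (hON : PropON.{u})
    {G : Type u} [Group G] [Finite G] [IsSimpleGroup G] (hG : ¬ IsMulCommutative G)
    (h3 : Cfsg.PRankLE 2 3 G) (h3' : ¬ Cfsg.PRankLE 2 2 G) : Concl G := by
  by_cases h4 : Cfsg.SectionalPRankLE 2 4 G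
  · exact hF G h3 h3' (hGH G hG h3' h4)
  · rcases hB G hG h3 h3' h4 with h | ⟨n, S, T, h⟩
    · exact hSE G hG h3 h3' h
    · rcases hON G n S T h with h | h
      · exact hSE G hG h3 h3' h
      · exact Or.inr (Or.inr (Or.inr (Or.inr (Or.inr (Or.inr h)))))

end Cfsg.Agent.RankThree.Assemble
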