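import Mathlib
import Cfsg.Prelude.Def_CaseTheorems
import Cfsg.Prelude.Def_Classical

/-!
# Elementary abelian subgroups of order 16: `PSL₄(q)`, `PSU₄(q)`, `PSp₄(q)`, `q` odd
-/

set_option autoImplicit false

open Cfsg Subgroup

namespace Cfsg.Agent.RankThree.Extra

/-- An elementary abelian group which embeds. -/
theorem card_le_of_injective {A K : Type*} [Group A] [Group K] {p k : ℕ}
    (h : PRankLE p k K) (f : A →* K) (hf : Function.Injective f) (hc : ∀ a b : A, a * b = b * a)
    (hp : ∀ a : A, a ^ p = 1) : Nat.card A ≤ p ^ k := by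
  have h1 := h f.range ⟨⟨by
    rintro ⟨_, a, rfl⟩ ⟨_, b, rfl⟩
    apply Subtype.ext
    change f a * f b = f b * f a
    rw [← map_mul, ← map_mul, hc]⟩⟩ (by
    rintro _ ⟨a, rfl⟩
    rw [← map_pow, hp, map_one])
  have h2 : Nat.card A = Nat.card f.range :=
    Nat.card_congr (MonoidHom.ofInjective hf).toEquiv
  rw [h2]
  exact h1

/-- 2-rank and injective homomorphisms. -/
theorem pRank_of_injective {X Y : Type*} [Group X] [Group Y] {p k : ℕ} (e : X →* Y)
    (he : Function.Injective e) (h : PRankLE p k Y) : PRankLE p k X := by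
  intro A hA hA2
  have h1 := card_le_of_injective h (e.comp A.subtype) (he.comp A.subtype_injective)
    (fun a b => hA.is_comm.comm a b) (fun a => Subtype.ext (hA2 a a.2))
  exact h1

section four

variable {G : Type*} [Group G]

/-- the homomorphism `-1 ↦ a` -/
def hom (a : G) (ha : a * a = 1) : ℤˣ →* G where
  toFun s := if s = 1 then 1 else a
  map_one' := if_pos rfl
  map_mul' s t := by
    rcases Int.units_eq_one_or s with rfl | rfl <;> rcases Int.units_eq_one_or t with rfl | rfl <;>
      simp [ha]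

theorem hom_neg {a : G} (ha : a * a = 1) : hom a ha (-1) = a := by
  change (if (-1 : ℤˣ) = 1 then 1 else a) = a
  rw [if_neg (by decide)]

theorem hom_commute {a b : G} (ha : a * a = 1) (hb : b * b = 1) (hab : a * b = b * a) (s t : ℤˣ) :
    Commute (hom a ha s) (hom b hb t) := by
  rcases Int.units_eq_one_or s with rfl | rfl <;> rcases Int.units_eq_one_or t with rfl | rfl <;>
    simp only [map_one, hom_neg, Commute.one_left, Commute.one_right]
  exact hab

/-- Four independent commuting involutions. -/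
theorem of_four {a b c d : G} (ha : a * a = 1) (hb : b * b = 1) (hc : c * c = 1) (hd : d * d = 1)
    (hab : a * b = b * a) (hac : a * c = c * a) (had : a * d = d * a) (hbc : b * c = c * b)
    (hbd : b * d = d * b) (hcd : c * d = d * c)
    (hne : ∀ s t u v : ℤˣ, hom a ha s * hom b hb t * (hom c hc u * hom d hd v) = 1 →
      s = 1 ∧ t = 1 ∧ u = 1 ∧ v = 1) : ¬ PRankLE 2 3 G := by
  intro h
  let f1 : ℤˣ × ℤˣ →* G := MonoidHom.noncommCoprod (hom a ha) (hom b hb) (hom_commute ha hb hab)
  let f2 : ℤˣ × ℤˣ →* G := MonoidHom.noncommCoprod (hom c hc) (hom d hd) (hom_commute hc hd hcd)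
  let f : (ℤˣ × ℤˣ) × (ℤˣ × ℤˣ) →* G := MonoidHom.noncommCoprod f1 f2 (by
    intro x y
    simp only [f1, f2, MonoidHom.noncommCoprod_apply]
    exact ((hom_commute ha hc hac _ _).mul_right (hom_commute ha hd had _ _)).mul_left
      ((hom_commute hb hc hbc _ _).mul_right (hom_commute hb hd hbd _ _)))
  have hf : Function.Injective f := by
    rw [injective_iff_map_eq_one]
    rintro ⟨⟨s, t⟩, ⟨u, v⟩⟩ h1
    obtain ⟨rfl, rfl, rfl, rfl⟩ := hne s t u v h1
    rfl
  have h1 := card_le_of_injective h f hf (fun a b => mul_comm a b) (fun a => by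
    obtain ⟨⟨s, t⟩, ⟨u, v⟩⟩ := a
    simp only [Prod.pow_mk, Int.units_sq]
    rfl)
  have h2 : Nat.card ((ℤˣ × ℤˣ) × (ℤˣ × ℤˣ)) = 16 := by
    rw [Nat.card_eq_fintype_card]
    rfl
  omega

/-- A group generated by two commuting extraspecial-like pairs modulo the centre. -/
theorem of_extra {A B C D m : G} (hm : m ∈ center G) (hm1 : m ≠ 1) (hA : A * A ∈ center G)
    (hB : B * B ∈ center G) (hC : C * C ∈ center G) (hD : D * D ∈ center G)
    (hAC : A * C = m * (C * A)) (hBD : B * D = m * (D * B)) (hAB : A * B = B * A)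
    (hAD : A * D = D * A) (hCB : C * B = B * C) (hCD : C * D = D * C) :
    ¬ PRankLE 2 3 (G ⧸ center G) := by
  have key : ∀ x y : G, x * y = m * (y * x) → x ∈ center G → False := by
    intro x y h hx
    rw [mem_center_iff.1 hx y] at h
    exact hm1 (right_eq_mul.1 h)
  have hcm : ∀ g, g * m = m * g := mem_center_iff.1 hm
  have hsq : ∀ x : G, x * x ∈ center G →
      (QuotientGroup.mk' (center G) x) * (QuotientGroup.mk' (center G) x) = 1 := by
    intro x hx
    rw [← map_mul]
    exact (QuotientGroup.eq_one_iff _).2 hx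
  have hcom : ∀ x y : G, x * y = y * x → (QuotientGroup.mk' (center G) x) *
      (QuotientGroup.mk' (center G) y) = (QuotientGroup.mk' (center G) y) *
      (QuotientGroup.mk' (center G) x) := by
    intro x y h
    rw [← map_mul, h, map_mul]
  have hcom' : ∀ x y : G, x * y = m * (y * x) → (QuotientGroup.mk' (center G) x) *
      (QuotientGroup.mk' (center G) y) = (QuotientGroup.mk' (center G) y) *
      (QuotientGroup.mk' (center G) x) := by
    intro x y h
    have h1 : QuotientGroup.mk' (center G) m = 1 := (QuotientGroup.eq_one_iff _).2 hm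
    rw [← map_mul, h, map_mul, h1, one_mul, map_mul]
  refine of_four (hsq A hA) (hsq B hB) (hsq C hC) (hsq D hD) (hcom A B hAB) (hcom' A C hAC)
    (hcom A D hAD) (hcom B C hCB.symm) (hcom' B D hBD) (hcom C D hCD) ?_
  have pw : ∀ (x : G) (hx : x * x ∈ center G) (s : ℤˣ), hom _ (hsq x hx) s =
      QuotientGroup.mk' (center G) (if s = 1 then 1 else x) := by
    intro x hx s
    rcases Int.units_eq_one_or s with rfl | rfl
    · simp
    · rw [hom_neg, if_neg (by decide)]
  intro s t u v h
  rw [pw A hA, pw B hB, pw C hC, pw D hD, ← map_mul, ← map_mul, ← map_mul] at h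
  have hz := (QuotientGroup.eq_one_iff _).1 h
  have c1 : ∀ (P Q : G) (w : ℤˣ), P * Q = Q * P → (if w = 1 then 1 else P) * Q = Q * (if w = 1 then 1 else P) := by
    intro P Q w h
    split_ifs
    · rw [one_mul, mul_one]
    · exact h
  generalize hA' : (if s = 1 then 1 else A) = A' at hz
  generalize hB' : (if t = 1 then 1 else B) = B' at hz
  generalize hC' : (if u = 1 then 1 else C) = C' at hz
  generalize hD' : (if v = 1 then 1 else D) = D' at hz
  have a1 : A' * B = B * A' := by rw [← hA']; exact c1 _ _ _ hAB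
  have a2 : A' * D = D * A' := by rw [← hA']; exact c1 _ _ _ hAD
  have a3 : A' * A = A * A' := by rw [← hA']; exact c1 _ _ _ rfl
  have b1 : B' * A = A * B' := by rw [← hB']; exact c1 _ _ _ hAB.symm
  have b2 : B' * C = C * B' := by rw [← hB']; exact c1 _ _ _ hCB.symm
  have b3 : B' * B = B * B' := by rw [← hB']; exact c1 _ _ _ rfl
  have e1 : C' * B = B * C' := by rw [← hC']; exact c1 _ _ _ hCB
  have e2 : C' * D = D * C' := by rw [← hC']; exact c1 _ _ _ hCD
  have e3 : C' * C = C * C' := by rw [← hC']; exact c1 _ _ _ rfl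
  have d1 : D' * A = A * D' := by rw [← hD']; exact c1 _ _ _ hAD.symm
  have d2 : D' * C = C * D' := by rw [← hD']; exact c1 _ _ _ hCD.symm
  have d3 : D' * D = D * D' := by rw [← hD']; exact c1 _ _ _ rfl
  refine ⟨?_, ?_, ?_, ?_⟩
  · by_contra hs
    rw [if_neg hs] at hA'
    refine key _ C ?_ hz
    rw [← hA']
    calc A * B' * (C' * D') * C = A * B' * C' * (D' * C) := by group
      _ = A * B' * (C' * C) * D' := by rw [d2]; group
      _ = A * (B' * C) * C' * D' := by rw [e3]; group
      _ = (A * C) * B' * C' * D' := by rw [b2]; group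
      _ = m * (C * (A * B' * (C' * D'))) := by rw [hAC]; group
  · by_contra hs
    rw [if_neg hs] at hB'
    refine key _ D ?_ hz
    rw [← hB']
    calc A' * B * (C' * D') * D = A' * B * C' * (D' * D) := by group
      _ = A' * B * (C' * D) * D' := by rw [d3]; group
      _ = A' * (B * D) * C' * D' := by rw [e2]; group
      _ = (A' * m) * D * B * C' * D' := by rw [hBD]; group
      _ = m * (A' * D) * B * C' * D' := by rw [hcm]; group
      _ = m * (D * (A' * B * (C' * D'))) := by rw [a2]; group
  · by_contra hs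
    rw [if_neg hs] at hC'
    have hCA : C * A = m⁻¹ * (A * C) := by rw [hAC]; group
    have hm' : m⁻¹ ∈ center G := inv_mem hm
    have hcm' : ∀ g, g * m⁻¹ = m⁻¹ * g := mem_center_iff.1 hm'
    have h1 : A' * B' * (C' * D') * A = m⁻¹ * (A * (A' * B' * (C' * D'))) := by
      rw [← hC']
      calc A' * B' * (C * D') * A = A' * B' * C * (D' * A) := by group
        _ = A' * B' * (C * A) * D' := by rw [d1]; group
        _ = A' * (B' * m⁻¹) * A * C * D' := by rw [hCA]; group
        _ = (A' * m⁻¹) * (B' * A) * C * D' := by rw [hcm']; group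
        _ = m⁻¹ * (A' * A) * B' * C * D' := by rw [hcm', b1]; group
        _ = m⁻¹ * (A * (A' * B' * (C * D'))) := by rw [a3]; group
    rw [mem_center_iff.1 hz A] at h1
    exact hm1 (inv_eq_one.1 (right_eq_mul.1 h1))
  · by_contra hs
    rw [if_neg hs] at hD'
    have hDB : D * B = m⁻¹ * (B * D) := by rw [hBD]; group
    have hm' : m⁻¹ ∈ center G := inv_mem hm
    have hcm' : ∀ g, g * m⁻¹ = m⁻¹ * g := mem_center_iff.1 hm'
    have h1 : A' * B' * (C' * D') * B = m⁻¹ * (B * (A' * B' * (C' * D'))) := by
      rw [← hD']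
      calc A' * B' * (C' * D) * B = A' * B' * C' * (D * B) := by group
        _ = A' * B' * (C' * m⁻¹) * B * D := by rw [hDB]; group
        _ = A' * (B' * m⁻¹) * (C' * B) * D := by rw [hcm']; group
        _ = (A' * m⁻¹) * B' * (B * C') * D := by rw [hcm', e1]; group
        _ = m⁻¹ * A' * (B' * B) * C' * D := by rw [hcm']; group
        _ = m⁻¹ * (A' * B) * B' * C' * D := by rw [b3]; group
        _ = m⁻¹ * (B * (A' * B' * (C' * D))) := by rw [a1]; group
    rw [mem_center_iff.1 hz B] at h1
    exact hm1 (inv_eq_one.1 (right_eq_mul.1 h1))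

end four

end Cfsg.Agent.RankThree.Extra
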