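import Cfsg.Agent.RankThree.ExtraLie
import Cfsg.Agent.GH.LowRank

/-!
# Elementary abelian subgroups of order 16 of `PSp₄(q)`, `PSL₅(q)`, `PSU₅(q)` (`q` odd), `L₂(16)`, `L₃(4)`
-/

set_option autoImplicit false

open Cfsg Subgroup

namespace Cfsg.Agent.RankThree.ExtraLie

open Extra

section sp

variable {F : Type*} [Field F]

/-- `1 ⊗ Y`, `Y` orthogonal -/
def inn (Y : Matrix (Fin 2) (Fin 2) F) (h : Y * Y.transpose = 1) :
    Matrix.symplecticGroup (Fin 2) F :=
  ⟨Matrix.fromBlocks Y 0 0 Y, by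
    rw [SymplecticGroup.mem_iff, Matrix.J, Matrix.fromBlocks_transpose,
      Matrix.fromBlocks_multiply, Matrix.fromBlocks_multiply]
    simp [h]⟩

theorem blkS_diag (x : GH.LowRank.SL2 F) : (GH.LowRank.blkS (x, x)).1 =
    Matrix.fromBlocks (x.1 0 0 • (1 : Matrix (Fin 2) (Fin 2) F)) (x.1 0 1 • 1) (x.1 1 0 • 1)
      (x.1 1 1 • 1) := by
  rw [GH.LowRank.blkS_coe, GH.LowRank.mS]
  congr 1 <;> ext a b <;> fin_cases a <;> fin_cases b <;> simp

theorem inn_comm (x : GH.LowRank.SL2 F) {Y : Matrix (Fin 2) (Fin 2) F} (h : Y * Y.transpose = 1) :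
    GH.LowRank.blkS (x, x) * inn Y h = inn Y h * GH.LowRank.blkS (x, x) := by
  apply Subtype.ext
  change (GH.LowRank.blkS (x, x)).1 * Matrix.fromBlocks Y 0 0 Y =
    Matrix.fromBlocks Y 0 0 Y * (GH.LowRank.blkS (x, x)).1
  rw [blkS_diag, Matrix.fromBlocks_multiply, Matrix.fromBlocks_multiply]
  simp

theorem blkS_neg : (GH.LowRank.blkS ((-1, -1) : GH.LowRank.SL2 F × GH.LowRank.SL2 F)).1 = -1 := by
  rw [GH.LowRank.blkS_coe]
  ext a b
  rcases a with a | a <;> rcases b with b | b <;> fin_cases a <;> fin_cases b <;>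
    simp [GH.LowRank.mS]

theorem psp_four [Finite F] (h2 : (2 : F) ≠ 0) : ¬ PRankLE 2 3 (PSp 2 F) := by
  obtain ⟨i, j, hi, hj, hij⟩ := GH.LowRank.exists_quat (F := F)
  have h1 : (-1 : F) ≠ 1 := by
    intro h
    apply h2
    linear_combination -h
  let m : Matrix.symplecticGroup (Fin 2) F :=
    GH.LowRank.blkS ((-1, -1) : GH.LowRank.SL2 F × GH.LowRank.SL2 F)
  have hm : m ∈ center (Matrix.symplecticGroup (Fin 2) F) := by
    rw [Subgroup.mem_center_iff]
    intro g
    apply Subtype.ext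
    change g.1 * (GH.LowRank.blkS ((-1, -1) : GH.LowRank.SL2 F × GH.LowRank.SL2 F)).1 =
      (GH.LowRank.blkS ((-1, -1) : GH.LowRank.SL2 F × GH.LowRank.SL2 F)).1 * g.1
    rw [blkS_neg]
    simp
  have hm1 : m ≠ 1 := by
    intro h
    have h3 := congrFun (congrFun (congrArg Subtype.val h) (Sum.inl 0)) (Sum.inl 0)
    change (GH.LowRank.blkS ((-1, -1) : GH.LowRank.SL2 F × GH.LowRank.SL2 F)).1 _ _ = _ at h3
    rw [blkS_neg] at h3
    exact h1 (by simpa using h3)
  have hz : (!![1, 0; 0, -1] : Matrix (Fin 2) (Fin 2) F) *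
      (!![1, 0; 0, -1] : Matrix (Fin 2) (Fin 2) F).transpose = 1 := by
    ext a b
    fin_cases a <;> fin_cases b <;> simp [Matrix.mul_apply, Fin.sum_univ_succ]
  have hx : (!![0, 1; 1, 0] : Matrix (Fin 2) (Fin 2) F) *
      (!![0, 1; 1, 0] : Matrix (Fin 2) (Fin 2) F).transpose = 1 := by
    ext a b
    fin_cases a <;> fin_cases b <;> simp [Matrix.mul_apply, Fin.sum_univ_succ]
  have sqi : ∀ x : GH.LowRank.SL2 F, x * x = -1 →
      GH.LowRank.blkS (x, x) * GH.LowRank.blkS (x, x) ∈
        center (Matrix.symplecticGroup (Fin 2) F) := by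
    intro x h
    rw [← map_mul, Prod.mk_mul_mk, h]
    exact hm
  have sqz : inn _ hz * inn _ hz = 1 := by
    apply Subtype.ext
    change Matrix.fromBlocks !![1, 0; 0, -1] 0 0 !![1, 0; 0, -1] *
      Matrix.fromBlocks !![1, 0; 0, -1] 0 0 !![1, 0; 0, -1] = 1
    rw [Matrix.fromBlocks_multiply, ← Matrix.fromBlocks_one]
    congr 1 <;> ext a b <;> fin_cases a <;> fin_cases b <;> simp
  have sqx : inn _ hx * inn _ hx = 1 := by
    apply Subtype.ext
    change Matrix.fromBlocks !![0, 1; 1, 0] 0 0 !![0, 1; 1, 0] *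
      Matrix.fromBlocks !![0, 1; 1, 0] 0 0 !![0, 1; 1, 0] = 1
    rw [Matrix.fromBlocks_multiply, ← Matrix.fromBlocks_one]
    congr 1 <;> ext a b <;> fin_cases a <;> fin_cases b <;> simp
  refine of_extra (G := Matrix.symplecticGroup (Fin 2) F) (A := GH.LowRank.blkS (i, i))
    (B := inn _ hz) (C := GH.LowRank.blkS (j, j)) (D := inn _ hx) (m := m) hm hm1 (sqi i hi)
    (by rw [sqz]; exact one_mem _) (sqi j hj) (by rw [sqx]; exact one_mem _) ?_ ?_
    (inn_comm _ _) (inn_comm _ _) (inn_comm _ _) (inn_comm _ _)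
  · rw [← map_mul, ← map_mul, ← map_mul, Prod.mk_mul_mk, Prod.mk_mul_mk, Prod.mk_mul_mk, hij]
    simp
  · apply Subtype.ext
    change Matrix.fromBlocks !![1, 0; 0, -1] 0 0 !![1, 0; 0, -1] *
      Matrix.fromBlocks !![0, 1; 1, 0] 0 0 !![0, 1; 1, 0] =
      (GH.LowRank.blkS ((-1, -1) : GH.LowRank.SL2 F × GH.LowRank.SL2 F)).1 *
      (Matrix.fromBlocks !![0, 1; 1, 0] 0 0 !![0, 1; 1, 0] *
        Matrix.fromBlocks !![1, 0; 0, -1] 0 0 !![1, 0; 0, -1])
    rw [blkS_neg, Matrix.fromBlocks_multiply, Matrix.fromBlocks_multiply, Matrix.neg_mul,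
      Matrix.one_mul, Matrix.fromBlocks_neg]
    congr 1 <;> ext a b <;> fin_cases a <;> fin_cases b <;> simp

end sp

section five

variable {F : Type*} [Field F]

/-- The diagonal of the sign matrices. -/
def dg (F : Type*) [Field F] (s : Fin 4 → ℤˣ) : Fin 5 → F :=
  Fin.cons ((∏ i, s i : ℤˣ) : ℤ) (fun i => ((s i : ℤ) : F))

theorem sign_sq (s : ℤˣ) : ((s : ℤ) : F) * ((s : ℤ) : F) = 1 := by
  rcases Int.units_eq_one_or s with rfl | rfl <;> simp

theorem dg_sign (s : Fin 4 → ℤˣ) (i : Fin 5) : ∃ t : ℤˣ, dg F s i = ((t : ℤ) : F) := by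
  refine Fin.cases ?_ (fun i => ?_) i
  · exact ⟨∏ i, s i, rfl⟩
  · exact ⟨s i, rfl⟩

theorem dg_prod (s : Fin 4 → ℤˣ) : ∏ i, dg F s i = 1 := by
  rw [Fin.prod_univ_succ]
  simp only [dg, Fin.cons_zero, Fin.cons_succ]
  rw [← sign_sq (∏ i, s i)]
  congr 1
  push_cast
  rfl

/-- The sign matrices. -/
def dS (F : Type*) [Field F] : (Fin 4 → ℤˣ) →* Matrix.SpecialLinearGroup (Fin 5) F :=
  MonoidHom.mk' (fun s => ⟨Matrix.diagonal (dg F s), by rw [Matrix.det_diagonal]; exact dg_prod s⟩)
    (by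
      intro s s'
      apply Subtype.ext
      change Matrix.diagonal (dg F (s * s')) = Matrix.diagonal (dg F s) * Matrix.diagonal (dg F s')
      rw [Matrix.diagonal_mul_diagonal]
      congr 1
      ext i
      refine Fin.cases ?_ (fun i => ?_) i
      · simp only [dg, Fin.cons_zero, Pi.mul_apply, Finset.prod_mul_distrib]
        push_cast
        rfl
      · simp only [dg, Fin.cons_succ, Pi.mul_apply]
        push_cast
        rfl)

theorem dS_coe (s : Fin 4 → ℤˣ) : (dS F s).1 = Matrix.diagonal (dg F s) := rfl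

/-- The `5`-cycle. -/
def cy (F : Type*) [Field F] : Matrix.SpecialLinearGroup (Fin 5) F :=
  ⟨(finRotate 5).permMatrix F, by
    rw [Matrix.det_permutation]
    have : Equiv.Perm.sign (finRotate 5) = 1 := by decide
    rw [this]
    simp⟩

theorem cy_coe : (cy F).1 = (finRotate 5).permMatrix F := rfl

theorem five {G : Type*} [Group G] (φ : G →* Matrix.SpecialLinearGroup (Fin 5) F)
    (hφ : Function.Injective φ) (h2 : (2 : F) ≠ 0) (hd : ∀ s, dS F s ∈ φ.range)
    (hc : cy F ∈ φ.range) : ¬ PRankLE 2 3 (G ⧸ center G) := by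
  intro h
  let e : G ≃* φ.range := MonoidHom.ofInjective hφ
  let f : (Fin 4 → ℤˣ) →* G := e.symm.toMonoidHom.comp ((dS F).codRestrict φ.range hd)
  have hf : ∀ s, φ (f s) = dS F s := by
    intro s
    have h3 : e (f s) = ⟨dS F s, hd s⟩ := e.apply_symm_apply _
    exact congrArg Subtype.val h3
  have h1 := card_le_of_injective h ((QuotientGroup.mk' (center G)).comp f) ?_ ?_ ?_
  · have h2 : Nat.card (Fin 4 → ℤˣ) = 16 := by
      rw [Nat.card_eq_fintype_card]
      rfl
    omega
  · rw [injective_iff_map_eq_one]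
    intro s hs
    have h3 : f s ∈ center G := (QuotientGroup.eq_one_iff _).1 hs
    obtain ⟨c, hc⟩ := hc
    have h4 := congrArg Subtype.val (congrArg φ (mem_center_iff.1 h3 c))
    rw [map_mul, map_mul, hf, hc] at h4
    change (cy F).1 * (dS F s).1 = (dS F s).1 * (cy F).1 at h4
    rw [cy_coe, dS_coe] at h4
    have h5 : ∀ i, dg F s (finRotate 5 i) = dg F s i := by
      intro i
      have h6 := congrFun (congrFun h4 i) (finRotate 5 i)
      rw [Matrix.mul_diagonal, Matrix.diagonal_mul] at h6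
      simpa [Equiv.Perm.permMatrix, PEquiv.toMatrix_apply] using h6
    have e0 := h5 0
    have e1 := h5 1
    have e2 := h5 2
    have e3 := h5 3
    have h6 : ∀ i, dg F s i = dg F s 0 := by
      have r0 : finRotate 5 0 = 1 := by decide
      have r1 : finRotate 5 1 = 2 := by decide
      have r2 : finRotate 5 2 = 3 := by decide
      have r3 : finRotate 5 3 = 4 := by decide
      rw [r0] at e0
      rw [r1] at e1
      rw [r2] at e2
      rw [r3] at e3
      intro i
      fin_cases i
      · rfl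
      · exact e0
      · exact e1.trans e0
      · exact e2.trans (e1.trans e0)
      · exact e3.trans (e2.trans (e1.trans e0))
    have hrr : dg F s 0 * dg F s 0 = 1 := by
      obtain ⟨t, ht⟩ := dg_sign (F := F) s 0
      rw [ht]
      exact sign_sq t
    have hr1 : dg F s 0 = 1 := by
      have h7 : dg F s 0 ^ 5 = 1 := by
        have h8 := dg_prod (F := F) s
        rw [Finset.prod_congr rfl (fun i _ => h6 i)] at h8
        simpa using h8
      calc dg F s 0 = dg F s 0 * (dg F s 0 * dg F s 0) * (dg F s 0 * dg F s 0) := by rw [hrr]; ring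
        _ = dg F s 0 ^ 5 := by ring
        _ = 1 := h7
    funext i
    have h5 : ((s i : ℤ) : F) = 1 := by
      have h7 := h6 i.succ
      rw [hr1] at h7
      exact h7
    rcases Int.units_eq_one_or (s i) with h7 | h7
    · exact h7
    · exfalso
      rw [h7] at h5
      apply h2
      push_cast at h5
      linear_combination -h5
  · intro a b
    exact mul_comm a b
  · intro s
    funext i
    exact Int.units_sq (s i)

theorem psl_five (h2 : (2 : F) ≠ 0) :
    ¬ PRankLE 2 3 (Matrix.ProjectiveSpecialLinearGroup (Fin 5) F) :=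
  five (MonoidHom.id _) Function.injective_id h2 (fun s => ⟨_, rfl⟩) ⟨_, rfl⟩

variable {q : ℕ}

theorem mem_dS (hq : Odd q) (s : Fin 4 → ℤˣ) : dS F s ∈ SU 5 F q := by
  intro u v
  change hermForm 5 F q ((dS F s).1.mulVec u) ((dS F s).1.mulVec v) = _
  rw [dS_coe]
  unfold hermForm
  apply Finset.sum_congr rfl
  intro i _
  rw [Matrix.mulVec_diagonal, Matrix.mulVec_diagonal, mul_pow]
  obtain ⟨t, ht⟩ := dg_sign (F := F) s i
  rw [ht]
  rcases Int.units_eq_one_or t with rfl | rfl
  · simp
  · simp [hq.neg_pow]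

theorem mem_cy : cy F ∈ SU 5 F q := by
  intro u v
  change hermForm 5 F q ((cy F).1.mulVec u) ((cy F).1.mulVec v) = _
  rw [cy_coe, Matrix.permMatrix_mulVec, Matrix.permMatrix_mulVec]
  unfold hermForm
  exact Equiv.sum_comp (finRotate 5) (fun i => u i * v i ^ q)

theorem psu_five (h2 : (2 : F) ≠ 0) (hq : Odd q) : ¬ PRankLE 2 3 (PSU 5 F q) :=
  five (SU 5 F q).subtype (SU 5 F q).subtype_injective h2 (fun s => ⟨⟨_, mem_dS hq s⟩, rfl⟩)
    ⟨⟨_, mem_cy⟩, rfl⟩

end five

section even

variable {F : Type*} [Field F]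

theorem psl_two_sixteen (hc : Nat.card F = 16) :
    ¬ PRankLE 2 3 (Matrix.ProjectiveSpecialLinearGroup (Fin 2) F) := by
  intro h
  have : Finite F := Nat.finite_of_card_ne_zero (by rw [hc]; norm_num)
  have h2 : (2 : F) = 0 := by
    have h3 : ((Nat.card F : ℕ) : F) = 0 := by
      have := Fintype.ofFinite F
      rw [Nat.card_eq_fintype_card]
      exact FiniteField.cast_card_eq_zero F
    rw [hc] at h3
    have h4 : (2 : F) ^ 4 = 0 := by
      rw [← h3]
      norm_num
    exact pow_eq_zero_iff (by norm_num) |>.1 h4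
  let f : Multiplicative F →* Matrix.SpecialLinearGroup (Fin 2) F := MonoidHom.mk'
    (fun a => ⟨!![1, Multiplicative.toAdd a; 0, 1], by simp [Matrix.det_fin_two_of]⟩) (by
      intro a b
      apply Subtype.ext
      change !![1, Multiplicative.toAdd (a * b); 0, 1] =
        !![1, Multiplicative.toAdd a; 0, 1] * !![1, Multiplicative.toAdd b; 0, 1]
      rw [Matrix.mul_fin_two, toAdd_mul]
      simp [add_comm])
  have h1 := card_le_of_injective h ((QuotientGroup.mk' _).comp f) ?_ (fun a b => mul_comm a b) ?_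
  · have h3 : Nat.card (Multiplicative F) = Nat.card F := rfl
    rw [h3, hc] at h1
    omega
  · rw [injective_iff_map_eq_one]
    intro a ha
    have h1 : f a ∈ center _ := (QuotientGroup.eq_one_iff _).1 ha
    rw [Matrix.SpecialLinearGroup.mem_center_iff] at h1
    obtain ⟨r, -, hr⟩ := h1
    have h4 := congrFun (congrFun hr 0) 1
    change Matrix.scalar (Fin 2) r 0 1 = Multiplicative.toAdd a at h4
    simp at h4
    exact Multiplicative.toAdd.injective h4.symm
  · intro a
    apply Multiplicative.toAdd.injective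
    change 2 • Multiplicative.toAdd a = 0
    rw [two_nsmul, ← two_mul, h2, zero_mul]

theorem psl_three_four (hc : Nat.card F = 4) :
    ¬ PRankLE 2 3 (Matrix.ProjectiveSpecialLinearGroup (Fin 3) F) := by
  intro h
  have : Finite F := Nat.finite_of_card_ne_zero (by rw [hc]; norm_num)
  have h2 : (2 : F) = 0 := by
    have h3 : ((Nat.card F : ℕ) : F) = 0 := by
      have := Fintype.ofFinite F
      rw [Nat.card_eq_fintype_card]
      exact FiniteField.cast_card_eq_zero F
    rw [hc] at h3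
    have h4 : (2 : F) ^ 2 = 0 := by
      rw [← h3]
      norm_num
    exact pow_eq_zero_iff (by norm_num) |>.1 h4
  let f : Multiplicative (F × F) →* Matrix.SpecialLinearGroup (Fin 3) F := MonoidHom.mk'
    (fun a => ⟨!![1, 0, (Multiplicative.toAdd a).1; 0, 1, (Multiplicative.toAdd a).2; 0, 0, 1],
      by simp [Matrix.det_fin_three]⟩) (by
      intro a b
      apply Subtype.ext
      change !![1, 0, (Multiplicative.toAdd (a * b)).1; 0, 1, (Multiplicative.toAdd (a * b)).2;
          0, 0, 1] =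
        !![1, 0, (Multiplicative.toAdd a).1; 0, 1, (Multiplicative.toAdd a).2; 0, 0, 1] *
        !![1, 0, (Multiplicative.toAdd b).1; 0, 1, (Multiplicative.toAdd b).2; 0, 0, 1]
      rw [toAdd_mul]
      ext i j
      fin_cases i <;> fin_cases j <;> simp [Matrix.mul_apply, Fin.sum_univ_succ, add_comm])
  have h1 := card_le_of_injective h ((QuotientGroup.mk' _).comp f) ?_ (fun a b => mul_comm a b) ?_
  · have : Nat.card (Multiplicative (F × F)) = Nat.card (F × F) := rfl
    rw [this, Nat.card_prod, hc] at h1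
    omega
  · rw [injective_iff_map_eq_one]
    intro a ha
    have h1 : f a ∈ center _ := (QuotientGroup.eq_one_iff _).1 ha
    rw [Matrix.SpecialLinearGroup.mem_center_iff] at h1
    obtain ⟨r, -, hr⟩ := h1
    have h4 := congrFun (congrFun hr 0) 2
    have h5 := congrFun (congrFun hr 1) 2
    change Matrix.scalar (Fin 3) r 0 2 = (Multiplicative.toAdd a).1 at h4
    change Matrix.scalar (Fin 3) r 1 2 = (Multiplicative.toAdd a).2 at h5
    simp at h4 h5
    exact Multiplicative.toAdd.injective (Prod.ext h4.symm h5.symm)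
  · intro a
    apply Multiplicative.toAdd.injective
    change 2 • Multiplicative.toAdd a = 0
    rw [two_nsmul]
    refine Prod.ext ?_ ?_
    · change (Multiplicative.toAdd a).1 + (Multiplicative.toAdd a).1 = 0
      rw [← two_mul, h2, zero_mul]
    · change (Multiplicative.toAdd a).2 + (Multiplicative.toAdd a).2 = 0
      rw [← two_mul, h2, zero_mul]

end even

end Cfsg.Agent.RankThree.ExtraLie
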