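import Cfsg.Agent.RankThree.Extra

/-!
# Elementary abelian subgroups of order 16 of `PSL₄(q)`, `PSU₄(q)`, `PSp₄(q)`, `q` odd
-/

set_option autoImplicit false

open Cfsg Subgroup

namespace Cfsg.Agent.RankThree.ExtraLie

open Extra

/-- `σ_z ⊗ 1` -/
def zA : Matrix.SpecialLinearGroup (Fin 4) ℤ :=
  ⟨!![1, 0, 0, 0; 0, 1, 0, 0; 0, 0, -1, 0; 0, 0, 0, -1], by decide⟩

/-- `1 ⊗ σ_z` -/
def zB : Matrix.SpecialLinearGroup (Fin 4) ℤ :=
  ⟨!![1, 0, 0, 0; 0, -1, 0, 0; 0, 0, 1, 0; 0, 0, 0, -1], by decide⟩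

/-- `σ_x ⊗ 1` -/
def zC : Matrix.SpecialLinearGroup (Fin 4) ℤ :=
  ⟨!![0, 0, 1, 0; 0, 0, 0, 1; 1, 0, 0, 0; 0, 1, 0, 0], by decide⟩

/-- `1 ⊗ σ_x` -/
def zD : Matrix.SpecialLinearGroup (Fin 4) ℤ :=
  ⟨!![0, 1, 0, 0; 1, 0, 0, 0; 0, 0, 0, 1; 0, 0, 1, 0], by decide⟩

/-- `-1` -/
def zM : Matrix.SpecialLinearGroup (Fin 4) ℤ :=
  ⟨!![-1, 0, 0, 0; 0, -1, 0, 0; 0, 0, -1, 0; 0, 0, 0, -1], by decide⟩

theorem zAA : zA * zA = 1 := by decide
theorem zBB : zB * zB = 1 := by decide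
theorem zCC : zC * zC = 1 := by decide
theorem zDD : zD * zD = 1 := by decide
theorem zAC : zA * zC = zM * (zC * zA) := by decide
theorem zBD : zB * zD = zM * (zD * zB) := by decide
theorem zAB : zA * zB = zB * zA := by decide
theorem zAD : zA * zD = zD * zA := by decide
theorem zCB : zC * zB = zB * zC := by decide
theorem zCD : zC * zD = zD * zC := by decide

section

variable {F : Type*} [Field F]

/-- reduction -/
abbrev red (F : Type*) [Field F] :
    Matrix.SpecialLinearGroup (Fin 4) ℤ →* Matrix.SpecialLinearGroup (Fin 4) F :=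
  Matrix.SpecialLinearGroup.map (Int.castRingHom F)

theorem coe_red (M : Matrix.SpecialLinearGroup (Fin 4) ℤ) :
    (red F M).1 = M.1.map (Int.castRingHom F) := rfl

theorem red_zM : (red F zM).1 = -1 := by
  rw [coe_red]
  ext i j
  fin_cases i <;> fin_cases j <;> simp [zM]

theorem red_zM_ne (h2 : (2 : F) ≠ 0) : red F zM ≠ 1 := by
  intro h
  have h1 := congrFun (congrFun (congrArg Subtype.val h) 0) 0
  rw [red_zM] at h1
  simp at h1
  apply h2
  linear_combination -h1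

theorem red_zM_comm (g : Matrix.SpecialLinearGroup (Fin 4) F) : g * red F zM = red F zM * g := by
  apply Subtype.ext
  change g.1 * (red F zM).1 = (red F zM).1 * g.1
  rw [red_zM]
  simp

theorem psl_four (h2 : (2 : F) ≠ 0) :
    ¬ PRankLE 2 3 (Matrix.ProjectiveSpecialLinearGroup (Fin 4) F) := by
  have hsq : ∀ x, x * x = 1 → red F x * red F x ∈ center (Matrix.SpecialLinearGroup (Fin 4) F) := by
    intro x hx
    rw [← map_mul, hx, map_one]
    exact one_mem _
  refine of_extra (G := Matrix.SpecialLinearGroup (Fin 4) F) (A := red F zA) (B := red F zB)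
    (C := red F zC) (D := red F zD) (m := red F zM) (mem_center_iff.2 red_zM_comm) (red_zM_ne h2)
    (hsq _ zAA) (hsq _ zBB) (hsq _ zCC) (hsq _ zDD) ?_ ?_ ?_ ?_ ?_ ?_
  · rw [← map_mul, zAC, map_mul, map_mul]
  · rw [← map_mul, zBD, map_mul, map_mul]
  · rw [← map_mul, zAB, map_mul]
  · rw [← map_mul, zAD, map_mul]
  · rw [← map_mul, zCB, map_mul]
  · rw [← map_mul, zCD, map_mul]

section unitary

variable {q : ℕ}

theorem mem_su_iff (g : Matrix.SpecialLinearGroup (Fin 4) F) :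
    g ∈ SU 4 F q ↔ ∀ u v, hermForm 4 F q (g.1.mulVec u) (g.1.mulVec v) = hermForm 4 F q u v := Iff.rfl

theorem form_eq (u v : Fin 4 → F) :
    hermForm 4 F q u v = u 0 * v 0 ^ q + u 1 * v 1 ^ q + u 2 * v 2 ^ q + u 3 * v 3 ^ q := by
  simp [hermForm, Fin.sum_univ_succ]
  ring

theorem mv_zA (u : Fin 4 → F) : (red F zA).1.mulVec u = ![u 0, u 1, -u 2, -u 3] := by
  rw [coe_red]
  ext i
  fin_cases i <;> simp [zA, Matrix.mulVec, dotProduct, Fin.sum_univ_succ]

theorem mv_zB (u : Fin 4 → F) : (red F zB).1.mulVec u = ![u 0, -u 1, u 2, -u 3] := by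
  rw [coe_red]
  ext i
  fin_cases i <;> simp [zB, Matrix.mulVec, dotProduct, Fin.sum_univ_succ]

theorem mv_zC (u : Fin 4 → F) : (red F zC).1.mulVec u = ![u 2, u 3, u 0, u 1] := by
  rw [coe_red]
  ext i
  fin_cases i <;> simp [zC, Matrix.mulVec, dotProduct, Fin.sum_univ_succ]

theorem mv_zD (u : Fin 4 → F) : (red F zD).1.mulVec u = ![u 1, u 0, u 3, u 2] := by
  rw [coe_red]
  ext i
  fin_cases i <;> simp [zD, Matrix.mulVec, dotProduct, Fin.sum_univ_succ]

theorem mv_zM (u : Fin 4 → F) : (red F zM).1.mulVec u = ![-u 0, -u 1, -u 2, -u 3] := by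
  rw [coe_red]
  ext i
  fin_cases i <;> simp [zM, Matrix.mulVec, dotProduct, Fin.sum_univ_succ]

theorem mem_zA (hq : Odd q) : red F zA ∈ SU 4 F q := by
  rw [mem_su_iff]
  intro u v
  rw [mv_zA, mv_zA, form_eq, form_eq]
  simp [hq.neg_pow]

theorem mem_zB (hq : Odd q) : red F zB ∈ SU 4 F q := by
  rw [mem_su_iff]
  intro u v
  rw [mv_zB, mv_zB, form_eq, form_eq]
  simp [hq.neg_pow]

theorem mem_zC : red F zC ∈ SU 4 F q := by
  rw [mem_su_iff]
  intro u v
  rw [mv_zC, mv_zC, form_eq, form_eq]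
  simp
  ring

theorem mem_zD : red F zD ∈ SU 4 F q := by
  rw [mem_su_iff]
  intro u v
  rw [mv_zD, mv_zD, form_eq, form_eq]
  simp
  ring

theorem mem_zM (hq : Odd q) : red F zM ∈ SU 4 F q := by
  rw [mem_su_iff]
  intro u v
  rw [mv_zM, mv_zM, form_eq, form_eq]
  simp [hq.neg_pow]

theorem psu_four (h2 : (2 : F) ≠ 0) (hq : Odd q) : ¬ PRankLE 2 3 (PSU 4 F q) := by
  have hsq : ∀ x (hx : red F x ∈ SU 4 F q), x * x = 1 →
      (⟨red F x, hx⟩ : SU 4 F q) * ⟨red F x, hx⟩ ∈ center (SU 4 F q) := by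
    intro x hx h
    have h1 : (⟨red F x, hx⟩ : SU 4 F q) * ⟨red F x, hx⟩ = 1 := by
      apply Subtype.ext
      change red F x * red F x = 1
      rw [← map_mul, h, map_one]
    rw [h1]
    exact one_mem _
  refine of_extra (G := SU 4 F q) (A := ⟨red F zA, mem_zA hq⟩) (B := ⟨red F zB, mem_zB hq⟩)
    (C := ⟨red F zC, mem_zC⟩) (D := ⟨red F zD, mem_zD⟩) (m := ⟨red F zM, mem_zM hq⟩)
    (mem_center_iff.2 fun g => Subtype.ext (red_zM_comm _))
    (fun h => red_zM_ne h2 (congrArg Subtype.val h))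
    (hsq _ _ zAA) (hsq _ _ zBB) (hsq _ _ zCC) (hsq _ _ zDD) ?_ ?_ ?_ ?_ ?_ ?_
  · apply Subtype.ext
    change red F zA * red F zC = red F zM * (red F zC * red F zA)
    rw [← map_mul, zAC, map_mul, map_mul]
  · apply Subtype.ext
    change red F zB * red F zD = red F zM * (red F zD * red F zB)
    rw [← map_mul, zBD, map_mul, map_mul]
  · apply Subtype.ext
    change red F zA * red F zB = red F zB * red F zA
    rw [← map_mul, zAB, map_mul]
  · apply Subtype.ext
    change red F zA * red F zD = red F zD * red F zA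
    rw [← map_mul, zAD, map_mul]
  · apply Subtype.ext
    change red F zC * red F zB = red F zB * red F zC
    rw [← map_mul, zCB, map_mul]
  · apply Subtype.ext
    change red F zC * red F zD = red F zD * red F zC
    rw [← map_mul, zCD, map_mul]

end unitary

end

end Cfsg.Agent.RankThree.ExtraLie
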