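import Mathlib
import Cfsg.Agent.GH.RankLow
import Cfsg.Agent.BenderType.Inv

/-!
# S1730: groups of 2-rank at least four: `A_n`, `M₂₂`, `M₂₃`, `J₂`, `J₃`; the 2-rank of `PSU₃(4)`
-/

set_option autoImplicit false

open Cfsg Subgroup
open Cfsg.Agent.GH.Defs

namespace Cfsg.Agent.RankThree.FilterSpor

/-- transport of a rank bound to a subgroup -/
theorem pRank_of_injective {G H : Type*} [Group G] [Group H] {p k : ℕ} (h : PRankLE p k G)
    (f : H →* G) (hf : Function.Injective f) : PRankLE p k H := by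
  intro A hA hp
  have h1 : Nat.card A = Nat.card (A.map f) :=
    Nat.card_congr (A.equivMapOfInjective f hf).toEquiv
  rw [h1]
  refine h (A.map f) ⟨⟨?_⟩⟩ ?_
  · rintro ⟨x, hx⟩ ⟨y, hy⟩
    obtain ⟨a, ha, rfl⟩ := Subgroup.mem_map.1 hx
    obtain ⟨b, hb, rfl⟩ := Subgroup.mem_map.1 hy
    apply Subtype.ext
    change f a * f b = f b * f a
    rw [← map_mul, ← map_mul]
    have := congrArg Subtype.val (hA.is_comm.comm (⟨a, ha⟩ : A) ⟨b, hb⟩)
    exact congrArg f this
  · intro x hx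
    obtain ⟨a, ha, rfl⟩ := Subgroup.mem_map.1 hx
    rw [← map_pow, hp a ha, map_one]

/-- An injective homomorphism from an elementary abelian group of order `16`. -/
theorem not_rank_of_hom {E G : Type*} [CommGroup E] [Group G] [Finite G] (f : E →* G)
    (hf : Function.Injective f) (hE : ∀ e : E, e ^ 2 = 1) (hc : 16 ≤ Nat.card E) :
    ¬ PRankLE 2 3 G := by
  intro h
  have h1 := pRank_of_injective h f hf ⊤ ⟨⟨fun a b => Subtype.ext (mul_comm a.1 b.1)⟩⟩
    (fun a _ => hE a)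
  rw [Nat.card_congr (Subgroup.topEquiv (G := E)).toEquiv] at h1
  norm_num at h1
  omega

theorem congr {X Y : Type*} [Group X] [Group Y] {p k : ℕ} (e : X ≃* Y) (h : ¬ PRankLE p k Y) :
    ¬ PRankLE p k X := fun h1 =>
  h (pRank_of_injective h1 e.symm.toMonoidHom e.symm.injective)

variable {X : Type*} [Group X]

theorem alt {n : ℕ} (hn : 8 ≤ n) (h : IsAlt n X) : ¬ PRankLE 2 3 X := by
  obtain ⟨e⟩ := h
  refine congr e (not_rank_of_hom (GH.RankLowEl.homA n hn) (GH.RankLowEl.homA_injective n hn) ?_ ?_)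
  · decide
  · rw [Nat.card_eq_fintype_card]
    decide

theorem m22_aux : ¬ PRankLE 2 3 ↥Spor.M22 := by
  refine not_rank_of_hom GH.RankLowSpor.hom22 GH.RankLowSpor.hom22_injective ?_ ?_
  · decide
  · rw [Nat.card_eq_fintype_card]
    decide

theorem m22 (h : Spor.IsoM22 X) : ¬ PRankLE 2 3 X := by
  obtain ⟨e⟩ := h
  exact congr e m22_aux

theorem m23 (h : Spor.IsoM23 X) : ¬ PRankLE 2 3 X := by
  obtain ⟨e⟩ := h
  refine congr e fun h1 => m22_aux (pRank_of_injective h1
    (Subgroup.inclusion (inf_le_left : Spor.M22 ≤ Spor.M23)) (Subgroup.inclusion_injective _))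

section J

open Cfsg.Agent.J2Sylow.Model Cfsg.Agent.J2Sylow.Model.F4

theorem t_aux : ¬ PRankLE 2 3 T := by
  have : Finite T := GH.RankLowSpor.finiteT
  refine not_rank_of_hom GH.RankLowSpor.homT GH.RankLowSpor.homT_injective ?_ ?_
  · intro e
    obtain ⟨⟨a, b⟩, rfl⟩ := Multiplicative.ofAdd.surjective e
    rw [← ofAdd_nsmul]
    have h3 : (2 : ℕ) • ((a, b) : F4 × F4) = 0 := by
      revert a b
      decide +kernel
    rw [h3]
    rfl
  · change 16 ≤ Nat.card (F4 × F4)
    rw [Nat.card_eq_fintype_card]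
    decide

theorem j2 (h : Spor.IsoJ2 X) : ¬ PRankLE 2 3 X := by
  obtain ⟨e⟩ := h
  have : Finite Spor.J2 := Nat.finite_of_card_ne_zero (by
    rw [J2Sylow.SporSylow.card_J2]; norm_num)
  obtain ⟨f, hf⟩ := J2Sylow.SporSylow.exists_hom
  exact congr e fun h1 => t_aux (pRank_of_injective h1 f hf)

theorem j3 (h : Spor.IsoJ3 X) : ¬ PRankLE 2 3 X := by
  obtain ⟨F, _, _, ω, hF, hω, ⟨e⟩⟩ := h
  have H := J3.Core.good_of_card hF hω
  have : Finite (Spor.J3 F ω) := Nat.finite_of_card_ne_zero (by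
    rw [J3.Simple.card_J3 hF H]; norm_num)
  obtain ⟨P⟩ : Nonempty (Sylow 2 (Spor.J3 F ω)) := inferInstance
  obtain ⟨e'⟩ := Schreier.JThreeSylow.exists_equiv hF H P
  exact congr e fun h1 => t_aux (pRank_of_injective h1
    ((P : Subgroup (Spor.J3 F ω)).subtype.comp e'.toMonoidHom)
    (Subtype.val_injective.comp e'.injective))

end J

/-- The 2-rank of `PSU₃(4)` is two. -/
theorem u34 [Finite X] (h : IsU34 X) : PRankLE 2 2 X := by
  obtain ⟨F, _, _, hF, ⟨e⟩⟩ := h
  refine pRank_of_injective (G := PSU 3 F 4) ?_ e.toMonoidHom e.injective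
  have : Finite (PSU 3 F 4) := Finite.of_equiv _ e.toEquiv
  intro A hA hp
  have hpg : IsPGroup 2 A := fun a => ⟨1, by
    rw [pow_one]
    exact Subtype.ext (hp a a.2)⟩
  obtain ⟨P, hP⟩ := hpg.exists_le_sylow
  have h1 := (BenderType.Inv.ty_psu (F := F) (n := 2) (by norm_num) (by rw [hF]; norm_num) P).inv
  have : Finite {x : ↥(P : Subgroup (PSU 3 F (2 ^ 2))) // x * x = 1} := inferInstance
  have h2 : Nat.card A ≤ Nat.card {x : ↥(P : Subgroup (PSU 3 F (2 ^ 2))) // x * x = 1} :=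
    Nat.card_le_card_of_injective (fun a => ⟨⟨a.1, hP a.2⟩, Subtype.ext (by
      have := hp a a.2
      rw [pow_two] at this
      exact this)⟩) (by
      intro a b hab
      exact Subtype.ext (congrArg (fun x => x.1.1) hab))
  exact h2.trans h1.le

end Cfsg.Agent.RankThree.FilterSpor
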