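import Mathlib
import Cfsg.Agent.RankThree.FilterSpor
import Cfsg.Agent.Lib.Cores

/-!
# S1730: a group with a 2-component `2.A_n`, `n ≥ 8`, has 2-rank at least four

The preimage in `2.A_n` of the regular elementary abelian subgroup of order 8 of `A₈` is elementary
abelian: a 7-cycle makes all squares of the lifts of its involutions equal.
-/

set_option autoImplicit false

open Cfsg Subgroup
open Cfsg.Agent.GH.Defs

namespace Cfsg.Agent.RankThree.FilterCover

/-! ### Odd normal subgroups -/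

theorem pRank_quotient_odd {K : Type*} [Group K] [Finite K] (N : Subgroup K) [N.Normal]
    (hN : ¬ 2 ∣ Nat.card N) {k : ℕ} (h : PRankLE 2 k K) : PRankLE 2 k (K ⧸ N) := by
  intro A hA hp
  have hpg : IsPGroup 2 A := fun a => ⟨1, by
    rw [pow_one]
    exact Subtype.ext (hp a a.2)⟩
  obtain ⟨n, hn⟩ := (IsPGroup.iff_card (p := 2)).1 hpg
  set H := A.comap (QuotientGroup.mk' N) with hH
  obtain ⟨S⟩ : Nonempty (Sylow 2 H) := inferInstance
  have h1 : Nat.card A ∣ Nat.card H := by
    refine Subgroup.card_dvd_of_surjective ((QuotientGroup.mk' N).subgroupComap A) ?_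
    rintro ⟨x, hx⟩
    obtain ⟨y, rfl⟩ := QuotientGroup.mk'_surjective N x
    exact ⟨⟨y, hx⟩, rfl⟩
  rw [hn] at h1
  have h2 : 2 ^ n ∣ Nat.card S := S.pow_dvd_card_of_pow_dvd_card h1
  let f : ↥(S : Subgroup H) →* K := H.subtype.comp (S : Subgroup H).subtype
  have hf : Function.Injective f := fun a b hab => Subtype.ext (Subtype.ext hab)
  have hfN : ∀ s : ↥(S : Subgroup H), f s ∈ N → s = 1 := by
    intro s hs
    obtain ⟨j, hj⟩ := S.isPGroup' s
    have h3 : orderOf s ∣ 2 ^ j := orderOf_dvd_of_pow_eq_one hj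
    have h4 : orderOf s ∣ Nat.card N := by
      rw [← orderOf_injective f hf s]
      have := orderOf_dvd_natCard (⟨f s, hs⟩ : N)
      rwa [← Subgroup.orderOf_coe] at this
    obtain ⟨i, -, hi⟩ := (Nat.dvd_prime_pow Nat.prime_two).1 h3
    rcases Nat.eq_zero_or_pos i with h0 | h0
    · rw [h0, pow_zero] at hi
      exact orderOf_eq_one_iff.1 hi
    · exact absurd ((dvd_pow_self 2 h0.ne').trans (hi ▸ h4)) hN
  have hfA : ∀ s : ↥(S : Subgroup H), (QuotientGroup.mk' N) (f s) ∈ A := fun s => s.1.2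
  have h5 : Nat.card S ≤ 2 ^ k := by
    have h6 : Nat.card S = Nat.card f.range :=
      Nat.card_congr (MonoidHom.ofInjective hf).toEquiv
    rw [h6]
    refine h f.range ⟨⟨?_⟩⟩ ?_
    · rintro ⟨_, a, rfl⟩ ⟨_, b, rfl⟩
      apply Subtype.ext
      change f a * f b = f b * f a
      have h7 : a * b * (b * a)⁻¹ = 1 := by
        apply hfN
        rw [← QuotientGroup.eq_one_iff]
        change (QuotientGroup.mk' N) (f (a * b * (b * a)⁻¹)) = 1
        rw [map_mul, map_mul, map_inv, map_inv, map_mul, map_mul, map_mul, map_mul, mul_inv_eq_one]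
        exact congrArg Subtype.val (hA.is_comm.comm (⟨_, hfA a⟩ : A) ⟨_, hfA b⟩)
      rw [mul_inv_eq_one] at h7
      rw [← map_mul, h7, map_mul]
    · rintro _ ⟨a, rfl⟩
      have h7 : a ^ 2 = 1 := by
        apply hfN
        rw [← QuotientGroup.eq_one_iff]
        change (QuotientGroup.mk' N) (f (a ^ 2)) = 1
        rw [map_pow, map_pow]
        exact hp _ (hfA a)
      rw [← map_pow, h7, map_one]
  rw [hn]
  exact (Nat.le_of_dvd Nat.card_pos h2).trans h5

/-! ### The regular group of order eight -/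

/-- the group of order eight -/
abbrev E8 : Type := ℤˣ × ℤˣ × ℤˣ

/-- the linear map of order seven -/
def sg : E8 ≃* E8 where
  toFun v := (v.2.2, v.1 * v.2.2, v.2.1)
  invFun v := (v.1 * v.2.1, v.2.2, v.1)
  left_inv := by decide
  right_inv := by decide
  map_mul' := by decide

theorem sg_trans : ∀ e e' : E8, e ≠ 1 → e' ≠ 1 → ∃ k : Fin 7, ((sg.toEquiv : Equiv.Perm E8) ^ k.1) e = e' := by
  decide +kernel

/-- the regular permutation representation -/
def reg : E8 →* Equiv.Perm E8 := MulAction.toPermHom E8 E8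

theorem sign_reg : ∀ e : E8, Equiv.Perm.sign (reg e) = 1 := by
  decide +kernel

theorem sign_sg : Equiv.Perm.sign (sg.toEquiv : Equiv.Perm E8) = 1 := by
  decide +kernel

theorem reg_injective : Function.Injective reg := by
  intro a b h
  have h1 := congrArg (fun σ : Equiv.Perm E8 => σ 1) h
  change a * 1 = b * 1 at h1
  simpa using h1

theorem conj_reg (e : E8) : (sg.toEquiv : Equiv.Perm E8) * reg e * (sg.toEquiv : Equiv.Perm E8)⁻¹ =
    reg (sg e) := by
  ext1 x
  change sg (e * sg.symm x) = sg e * x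
  rw [map_mul, MulEquiv.apply_symm_apply]

/-! ### The preimage in a double cover -/

/-- the abstract lemma -/
theorem cover_aux {Y A E : Type*} [Group Y] [Finite Y] [Group A] [CommGroup E] (φ : Y →* A)
    (hφ : Function.Surjective φ) {z : Y} (hz : z ≠ 1) (hzz : z * z = 1) (hzc : ∀ y, z * y = y * z)
    (hker : ∀ y, φ y = 1 → y = 1 ∨ y = z) (hφz : φ z = 1) (ρ : E →* A) (hρ : Function.Injective ρ)
    (hE : 8 ≤ Nat.card E) (hsq : ∀ e : E, e * e = 1) (g : A)
    (htr : ∀ e e' : E, e ≠ 1 → e' ≠ 1 → ∃ k : ℕ, g ^ k * ρ e * (g ^ k)⁻¹ = ρ e')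
    (e₁ e₂ e₃ : E) (h1 : e₁ ≠ 1) (h2 : e₂ ≠ 1) (h3 : e₃ ≠ 1) (h12 : e₁ * e₂ ≠ 1) (h13 : e₁ * e₃ ≠ 1)
    (h23 : e₂ * e₃ ≠ 1) (h123 : e₁ * (e₂ * e₃) ≠ 1) : ¬ PRankLE 2 3 Y := by
  -- all squares of the lifts are equal to one
  have hZ : ∀ y, φ y = 1 → y * y = 1 := by
    intro y hy
    rcases hker y hy with rfl | rfl
    · exact mul_one 1
    · exact hzz
  have hlift : ∀ y y', φ y = φ y' → y' = y ∨ y' = y * z := by
    intro y y' h
    have h4 : φ (y⁻¹ * y') = 1 := by rw [map_mul, map_inv, h, inv_mul_cancel]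
    rcases hker _ h4 with h5 | h5
    · left
      rw [inv_mul_eq_one] at h5
      exact h5.symm
    · right
      rw [← h5, mul_inv_cancel_left]
  have hall : ∀ (x : Y) (e : E), φ x = ρ e → x * x = 1 := by
    by_contra hcon
    push Not at hcon
    obtain ⟨x₀, e₀, hx₀, hne⟩ := hcon
    have hsqz : ∀ (x : Y) (e : E), φ x = ρ e → x * x = 1 ∨ x * x = z := by
      intro x e hx
      apply hker
      rw [map_mul, hx, ← map_mul, hsq, map_one]
    have he₀ : e₀ ≠ 1 := by
      rintro rfl
      rw [map_one] at hx₀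
      exact hne (hZ _ hx₀)
    have hx₀z : x₀ * x₀ = z := (hsqz x₀ e₀ hx₀).resolve_left hne
    obtain ⟨w, hw⟩ := hφ g
    have hz2 : ∀ (x : Y) (e : E), φ x = ρ e → e ≠ 1 → x * x = z := by
      intro x e hx he
      obtain ⟨k, hk⟩ := htr e₀ e he₀ he
      have h4 : φ (w ^ k * x₀ * (w ^ k)⁻¹) = φ x := by
        rw [map_mul, map_mul, map_inv, map_pow, hw, hx₀, hk, hx]
      have h5 : (w ^ k * x₀ * (w ^ k)⁻¹) * (w ^ k * x₀ * (w ^ k)⁻¹) = z := by
        have h6 : (w ^ k * x₀ * (w ^ k)⁻¹) * (w ^ k * x₀ * (w ^ k)⁻¹) = w ^ k * (x₀ * x₀) * (w ^ k)⁻¹ := by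
          group
        rw [h6, hx₀z, ← hzc, mul_inv_cancel_right]
      rcases hlift _ _ h4 with h6 | h6
      · rw [h6]
        exact h5
      · rw [h6]
        have h7 : ∀ y : Y, (y * z) * (y * z) = y * y := by
          intro y
          rw [mul_assoc y z, ← mul_assoc z y z, hzc y, mul_assoc y z z, hzz, mul_one]
        rw [h7, h5]
    obtain ⟨x, hx⟩ := hφ (ρ e₁)
    obtain ⟨y, hy⟩ := hφ (ρ e₂)
    obtain ⟨v, hv⟩ := hφ (ρ e₃)
    have key : ∀ (a b : Y) (e f : E), φ a = ρ e → φ b = ρ f → e ≠ 1 → f ≠ 1 → e * f ≠ 1 →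
        a * b = z * (b * a) := by
      intro a b e f ha hb he hf hef
      have h4 := hz2 a e ha he
      have h5 := hz2 b f hb hf
      have h6 := hz2 (a * b) (e * f) (by rw [map_mul, ha, hb, map_mul]) hef
      -- a b a b = z, b a = (a b)⁻¹ a a b b ... 
      have h7 : a * b * (a * b) = z := h6
      have h8 : b * a * (b * a) = z := hz2 (b * a) (f * e)
        (by rw [map_mul, ha, hb, map_mul]) (by rw [mul_comm]; exact hef)
      -- (a b)(b a) = a z a = z z = 1
      have h9 : (a * b) * (b * a) = 1 := by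
        have : (a * b) * (b * a) = a * (b * b) * a := by group
        rw [this, h5, mul_assoc, hzc a, ← mul_assoc, h4, hzz]
      -- a b = (b a)⁻¹ = z * (b a)
      have h10 : (b * a)⁻¹ = z * (b * a) := by
        rw [inv_eq_iff_mul_eq_one, ← mul_assoc, ← hzc, mul_assoc, h8, hzz]
      rw [← h10]
      exact eq_inv_of_mul_eq_one_left h9
    have k1 := key x y e₁ e₂ hx hy h1 h2 h12
    have k2 := key x v e₁ e₃ hx hv h1 h3 h13
    have k3 := key x (y * v) e₁ (e₂ * e₃) hx (by rw [map_mul, hy, hv, map_mul]) h1 h23 h123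
    apply hz
    have k4 : x * (y * v) = y * v * x := by
      calc x * (y * v) = (x * y) * v := by group
        _ = z * (y * x) * v := by rw [k1]
        _ = z * y * (x * v) := by group
        _ = z * y * (z * (v * x)) := by rw [k2]
        _ = z * (y * z) * (v * x) := by group
        _ = z * (z * y) * (v * x) := by rw [← hzc y]
        _ = (z * z) * (y * v * x) := by group
        _ = y * v * x := by rw [hzz, one_mul]
    rw [k4] at k3
    exact (right_eq_mul.1 k3)
  -- the preimage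
  intro hr
  set H := ρ.range.comap φ with hH
  have hmem : ∀ x, x ∈ H → ∃ e, φ x = ρ e := by
    rintro x ⟨e, he⟩
    exact ⟨e, he.symm⟩
  have hHsq : ∀ x ∈ H, x * x = 1 := by
    intro x hx
    obtain ⟨e, he⟩ := hmem x hx
    exact hall x e he
  have hHc : ∀ x ∈ H, ∀ y ∈ H, x * y = y * x := by
    intro x hx y hy
    have h4 := hHsq _ (H.mul_mem hx hy)
    have h5 := hHsq x hx
    have h6 := hHsq y hy
    calc x * y = x * (x * y * (x * y)) * y := by rw [h4, mul_one]
      _ = (x * x) * (y * x) * (y * y) := by group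
      _ = y * x := by rw [h5, h6, one_mul, mul_one]
  have h4 := hr H ⟨⟨fun a b => Subtype.ext (hHc _ a.2 _ b.2)⟩⟩ (fun a ha => by
    rw [pow_two]
    exact hHsq a ha)
  -- card H = 16
  have h5 : 16 ≤ Nat.card H := by
    let s : E → Y := fun e => Function.surjInv hφ (ρ e)
    have hs : ∀ e, φ (s e) = ρ e := fun e => Function.surjInv_eq hφ (ρ e)
    have hmemH : ∀ e (b : Bool), s e * (if b then z else 1) ∈ H := by
      intro e b
      refine ⟨e, ?_⟩
      cases b
      · simp [hs]
      · simp [hs, hφz]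
    have hinj : Function.Injective (fun p : E × Bool => (⟨_, hmemH p.1 p.2⟩ : H)) := by
      rintro ⟨e, b⟩ ⟨e', b'⟩ h
      have h6 : s e * (if b then z else 1) = s e' * (if b' then z else 1) := congrArg Subtype.val h
      have h7 : e = e' := by
        apply hρ
        have h8 := congrArg φ h6
        cases b <;> cases b' <;> simpa [hs, hφz] using h8
      subst h7
      have h8 : (if b then z else 1) = (if b' then z else (1 : Y)) := mul_left_cancel h6
      cases b <;> cases b' <;> simp at h8 ⊢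
      · exact hz h8.symm
      · exact hz h8
    have h6 := Nat.card_le_card_of_injective _ hinj
    rw [Nat.card_prod] at h6
    have h7 : Nat.card Bool = 2 := by rw [Nat.card_eq_fintype_card]; rfl
    rw [h7] at h6
    omega
  norm_num at h4
  omega

/-! ### The alternating groups -/

/-- the embedding of the eight points -/
noncomputable def emb (n : ℕ) (h : 8 ≤ n) : E8 ↪ Fin n :=
  (Fintype.equivFinOfCardEq (α := E8) (n := 8) (by decide)).toEmbedding.trans (Fin.castLEEmb h)

/-- permutations of the eight points as permutations of `n` points -/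
noncomputable def ext (n : ℕ) (h : 8 ≤ n) : Equiv.Perm E8 →* Equiv.Perm (Fin n) :=
  Equiv.Perm.viaEmbeddingHom (emb n h)

theorem ext_injective (n : ℕ) (h : 8 ≤ n) : Function.Injective (ext n h) :=
  Equiv.Perm.viaEmbeddingHom_injective _

theorem sign_ext (n : ℕ) (h : 8 ≤ n) (σ : Equiv.Perm E8) :
    Equiv.Perm.sign (ext n h σ) = Equiv.Perm.sign σ := by
  classical
  have h1 : ext n h σ = Equiv.Perm.viaEmbedding σ (emb n h) := rfl
  rw [h1]
  unfold Equiv.Perm.viaEmbedding
  rw [Equiv.Perm.sign_extendDomain]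

/-- the regular group of order eight in `A_n` -/
noncomputable def regA (n : ℕ) (h : 8 ≤ n) : E8 →* alternatingGroup (Fin n) :=
  ((ext n h).comp reg).codRestrict (alternatingGroup (Fin n)) (fun x =>
    Equiv.Perm.mem_alternatingGroup.2 ((sign_ext n h _).trans (sign_reg x)))

theorem regA_injective (n : ℕ) (h : 8 ≤ n) : Function.Injective (regA n h) := by
  intro x y hxy
  exact reg_injective (ext_injective n h (congrArg Subtype.val hxy))

/-- the element of order seven -/
noncomputable def sgA (n : ℕ) (h : 8 ≤ n) : alternatingGroup (Fin n) :=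
  ⟨ext n h (sg.toEquiv : Equiv.Perm E8), Equiv.Perm.mem_alternatingGroup.2
    ((sign_ext n h _).trans sign_sg)⟩

theorem conj_reg_pow (k : ℕ) (e : E8) : (sg.toEquiv : Equiv.Perm E8) ^ k * reg e *
    ((sg.toEquiv : Equiv.Perm E8) ^ k)⁻¹ = reg (((sg.toEquiv : Equiv.Perm E8) ^ k) e) := by
  induction k with
  | zero => simp
  | succ k ih =>
    rw [pow_succ', mul_inv_rev]
    have h1 : (sg.toEquiv : Equiv.Perm E8) * (sg.toEquiv : Equiv.Perm E8) ^ k * reg e *
        (((sg.toEquiv : Equiv.Perm E8) ^ k)⁻¹ * (sg.toEquiv : Equiv.Perm E8)⁻¹) =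
        (sg.toEquiv : Equiv.Perm E8) * ((sg.toEquiv : Equiv.Perm E8) ^ k * reg e *
        ((sg.toEquiv : Equiv.Perm E8) ^ k)⁻¹) * (sg.toEquiv : Equiv.Perm E8)⁻¹ := by group
    rw [h1, ih, conj_reg]
    rfl

theorem trans_regA (n : ℕ) (h : 8 ≤ n) (e e' : E8) (he : e ≠ 1) (he' : e' ≠ 1) :
    ∃ k : ℕ, sgA n h ^ k * regA n h e * (sgA n h ^ k)⁻¹ = regA n h e' := by
  obtain ⟨k, hk⟩ := sg_trans e e' he he'
  refine ⟨k.1, ?_⟩
  apply Subtype.ext
  change (ext n h (sg.toEquiv : Equiv.Perm E8)) ^ k.1 * ext n h (reg e) *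
    ((ext n h (sg.toEquiv : Equiv.Perm E8)) ^ k.1)⁻¹ = ext n h (reg e')
  rw [← map_pow, ← map_inv, ← map_mul, ← map_mul, conj_reg_pow, hk]

/-- **A double cover of `A_n`, `n ≥ 8`, has 2-rank at least four.** -/
theorem cover {Y : Type*} [Group Y] [Finite Y] {n : ℕ} (hn : 8 ≤ n)
    (h : IsNonsplitDoubleCover Y (alternatingGroup (Fin n))) : ¬ PRankLE 2 3 Y := by
  obtain ⟨hc, ⟨e⟩, -⟩ := h
  obtain ⟨z, hz, huniq⟩ := (Nat.card_eq_two_iff' (1 : center Y)).1 hc
  have hzker : ∀ y : Y, y ∈ center Y → y = 1 ∨ y = z := by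
    intro y hy
    by_cases h1 : y = 1
    · exact Or.inl h1
    · right
      have := huniq ⟨y, hy⟩ (fun h2 => h1 (congrArg Subtype.val h2))
      exact congrArg Subtype.val this
  have hz1 : (z : Y) ≠ 1 := fun h1 => hz (Subtype.ext h1)
  have hzz : (z : Y) * z = 1 := by
    have h1 : z ^ Nat.card (center Y) = 1 := pow_card_eq_one'
    rw [hc, pow_two] at h1
    exact congrArg Subtype.val h1
  refine cover_aux (e.toMonoidHom.comp (QuotientGroup.mk' (center Y)))
    (e.surjective.comp (QuotientGroup.mk'_surjective _)) hz1 hzz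
    (fun y => ((mem_center_iff.1 z.2) y).symm) ?_ ?_ (regA n hn) (regA_injective n hn) ?_ ?_
    (sgA n hn) (trans_regA n hn) (-1, 1, 1) (1, -1, 1) (1, 1, -1) (by decide) (by decide) (by decide)
    (by decide) (by decide) (by decide) (by decide)
  · intro y hy
    apply hzker
    have h1 : e (QuotientGroup.mk' (center Y) y) = 1 := hy
    rw [map_eq_one_iff e e.injective] at h1
    exact (QuotientGroup.eq_one_iff y).1 h1
  · change e (QuotientGroup.mk' (center Y) (z : Y)) = 1
    have h1 : QuotientGroup.mk' (center Y) (z : Y) = 1 := (QuotientGroup.eq_one_iff (z : Y)).2 z.2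
    rw [h1, map_one]
  · rw [Nat.card_eq_fintype_card]
    decide
  · decide

/-- **A group with a 2-component `2.A_n`, `n ≥ 8`, has 2-rank at least four.** -/
theorem altCover {X : Type*} [Group X] [Finite X] (h : HasAltCover X) : ¬ PRankLE 2 3 X := by
  obtain ⟨n, t, K, hn, -, -, hc⟩ := h
  intro h1
  have h2 : PRankLE 2 3 K := FilterSpor.pRank_of_injective h1 K.subtype Subtype.val_injective
  refine cover hn hc (pRank_quotient_odd (oddCore ↥K) ?_ h2)
  rw [← Nat.odd_iff.trans Nat.two_dvd_ne_zero.symm]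
  exact Nat.coprime_two_right.1 (Cfsg.Agent.Lib.Cores.pPrimeCore_coprime 2)

end Cfsg.Agent.RankThree.FilterCover
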