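import Mathlib
import Cfsg.Agent.RankThree.FilterSpor

/-!
# S1730: `PSL₂(16)`, `PSL₃(4)`, `PSL₅(q)`, `PSU₅(q)` (`q` odd) have 2-rank at least four
-/

set_option autoImplicit false

open Cfsg Subgroup
open Cfsg.Agent.GH.Defs
open Cfsg.Agent.RankThree.FilterSpor (not_rank_of_hom pRank_of_injective)

namespace Cfsg.Agent.RankThree.FilterLie

variable {X : Type*} [Group X]

theorem psl_two_sixteen {F : Type*} [Field F] (hc : Nat.card F = 16) :
    ¬ PRankLE 2 3 (Matrix.ProjectiveSpecialLinearGroup (Fin 2) F) := by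
  have : Finite F := Nat.finite_of_card_ne_zero (by rw [hc]; norm_num)
  have : Finite (Matrix.SpecialLinearGroup (Fin 2) F) := inferInstance
  have h2 : (2 : F) = 0 := by
    have h3 : ((Nat.card F : ℕ) : F) = 0 := by
      have := Fintype.ofFinite F
      rw [Nat.card_eq_fintype_card]
      exact FiniteField.cast_card_eq_zero F
    rw [hc] at h3
    have h4 : (2 : F) ^ 4 = 0 := by
      rw [← h3]
      norm_num
    exact pow_eq_zero_iff (by norm_num) |>.1 h4
  let f : Multiplicative F →* Matrix.SpecialLinearGroup (Fin 2) F := MonoidHom.mk'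
    (fun a => ⟨!![1, Multiplicative.toAdd a; 0, 1], by simp [Matrix.det_fin_two_of]⟩) (by
      intro a b
      apply Subtype.ext
      change !![1, Multiplicative.toAdd (a * b); 0, 1] =
        !![1, Multiplicative.toAdd a; 0, 1] * !![1, Multiplicative.toAdd b; 0, 1]
      rw [Matrix.mul_fin_two, toAdd_mul]
      simp [add_comm])
  refine not_rank_of_hom ((QuotientGroup.mk' _).comp f) ?_ ?_ ?_
  · rw [injective_iff_map_eq_one]
    intro a ha
    have h1 : f a ∈ center _ := (QuotientGroup.eq_one_iff _).1 ha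
    rw [Matrix.SpecialLinearGroup.mem_center_iff] at h1
    obtain ⟨r, -, hr⟩ := h1
    have h4 := congrFun (congrFun hr 0) 1
    change Matrix.scalar (Fin 2) r 0 1 = Multiplicative.toAdd a at h4
    simp at h4
    exact Multiplicative.toAdd.injective h4.symm
  · intro a
    apply Multiplicative.toAdd.injective
    change 2 • Multiplicative.toAdd a = 0
    rw [two_nsmul, ← two_mul, h2, zero_mul]
  · change 16 ≤ Nat.card F
    rw [hc]

theorem l216 (h : IsL216 X) : ¬ PRankLE 2 3 X := by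
  obtain ⟨F, _, _, hF, ⟨e⟩⟩ := h
  exact FilterSpor.congr e (psl_two_sixteen (by rw [Nat.card_eq_fintype_card, hF]))

theorem psl_three_four {F : Type*} [Field F] [Finite F] (h4 : Nat.card F = 4) :
    ¬ PRankLE 2 3 (Matrix.ProjectiveSpecialLinearGroup (Fin 3) F) := by
  have h2 : (2 : F) = 0 := by
    have := Fintype.ofFinite F
    have h5 : ((4 : ℕ) : F) = 0 := by
      rw [← h4, Nat.card_eq_fintype_card]
      exact FiniteField.cast_card_eq_zero F
    have h6 : (2 : F) * 2 = 0 := by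
      push_cast at h5
      linear_combination h5
    rcases mul_eq_zero.1 h6 with h | h <;> exact h
  refine not_rank_of_hom GH.RankLowEl.homU GH.RankLowEl.homU_injective ?_ ?_
  · intro e
    obtain ⟨⟨a, b⟩, rfl⟩ := Multiplicative.ofAdd.surjective e
    rw [← ofAdd_nsmul]
    have h3 : (2 : ℕ) • ((a, b) : F × F) = 0 := by
      refine Prod.ext ?_ ?_ <;> simp [two_mul, ← two_mul, h2, nsmul_eq_mul]
    rw [h3]
    rfl
  · have h3 : Nat.card (Multiplicative (F × F)) = Nat.card (F × F) := rfl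
    rw [h3, Nat.card_prod, h4]

theorem l34 (h : IsL34 X) : ¬ PRankLE 2 3 X := by
  obtain ⟨F, _, _, hF, ⟨e⟩⟩ := h
  exact FilterSpor.congr e (psl_three_four (by rw [Nat.card_eq_fintype_card, hF]))

/-! ### Degree five -/

section five

open Cfsg.Agent.GH.RankLie (mm mm_mul mm_det mm_inj mm_apply mm_herm slToMat_apply)

variable {K : Type*} [Field K]

/-- the diagonal entries -/
def dv (K : Type*) [Field K] (s : Fin 4 → ℤˣ) : Fin 5 → K :=
  Fin.cons (((∏ i, s i : ℤˣ) : ℤ) : K) (fun i => ((s i : ℤ) : K))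

theorem sq_cast (s : ℤˣ) : ((s : ℤ) : K) * ((s : ℤ) : K) = 1 := by
  rcases Int.units_eq_one_or s with rfl | rfl <;> simp

theorem dv_mul (s s' : Fin 4 → ℤˣ) (i : Fin 5) : dv K (s * s') i = dv K s i * dv K s' i := by
  refine Fin.cases ?_ (fun i => ?_) i
  · simp only [dv, Fin.cons_zero, Pi.mul_apply, Finset.prod_mul_distrib]
    push_cast
    rfl
  · simp only [dv, Fin.cons_succ, Pi.mul_apply]
    push_cast
    rfl

theorem dv_sq (s : Fin 4 → ℤˣ) (i : Fin 5) : dv K s i * dv K s i = 1 := by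
  refine Fin.cases ?_ (fun i => ?_) i
  · exact sq_cast _
  · exact sq_cast _

theorem prod_dv (s : Fin 4 → ℤˣ) : ∏ i, dv K s i = 1 := by
  rw [Fin.prod_univ_succ]
  simp only [dv, Fin.cons_zero, Fin.cons_succ]
  rw [← sq_cast (∏ i, s i)]
  congr 1
  push_cast
  rfl

/-- the diagonal group -/
def dg (K : Type*) [Field K] : (Fin 4 → ℤˣ) →* Matrix.SpecialLinearGroup (Fin 5) K := MonoidHom.mk'
    (fun s => ⟨mm (dv K s) 1, by rw [mm_det, prod_dv]; simp⟩) (by
      intro s s'
      apply Subtype.ext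
      change mm (dv K (s * s')) 1 = mm (dv K s) 1 * mm (dv K s') 1
      rw [mm_mul, mul_one]
      congr 1
      funext i
      exact dv_mul s s' i)

theorem dg_apply (s : Fin 4 → ℤˣ) : ((dg K s : Matrix.SpecialLinearGroup (Fin 5) K) :
    Matrix (Fin 5) (Fin 5) K) = mm (dv K s) 1 := rfl

/-- an element of the diagonal group commuting with the even permutations is trivial -/
theorem eq_one_of_scalar (h2 : (2 : K) ≠ 0) (s : Fin 4 → ℤˣ) (h : ∀ i j, dv K s i = dv K s j) :
    s = 1 := by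
  have h3 : dv K s 0 = 1 := by
    have h4 := prod_dv (K := K) s
    rw [Finset.prod_congr rfl (fun i _ => h i 0)] at h4
    simp only [Finset.prod_const, Finset.card_univ, Fintype.card_fin] at h4
    calc dv K s 0 = dv K s 0 * (dv K s 0 * dv K s 0) * (dv K s 0 * dv K s 0) := by
          rw [dv_sq]; ring
      _ = dv K s 0 ^ 5 := by ring
      _ = 1 := h4
  funext i
  have h5 : ((s i : ℤ) : K) = 1 := by
    have h6 := h i.succ 0
    simp only [dv, Fin.cons_succ] at h6
    rw [h6]
    exact h3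
  rcases Int.units_eq_one_or (s i) with h7 | h7
  · exact h7
  · exfalso
    rw [h7] at h5
    apply h2
    push_cast at h5
    linear_combination -h5

/-- the common argument -/
theorem main_five [Finite K] (h2 : (2 : K) ≠ 0) {S : Type*} [Group S] [Finite S]
    (ι : S →* Matrix.SpecialLinearGroup (Fin 5) K) (f : (Fin 4 → ℤˣ) →* S)
    (hf : ∀ m, ι (f m) = dg K m)
    (hπ : ∀ π : Equiv.Perm (Fin 5), ∀ _ : Equiv.Perm.sign π = 1, ∃ s : S, (ι s).1 = mm (fun _ => (1 : K)) π) :
    ¬ PRankLE 2 3 (S ⧸ center S) := by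
  refine not_rank_of_hom ((QuotientGroup.mk' (center S)).comp f) ?_ ?_ ?_
  · rw [injective_iff_map_eq_one]
    intro m hm
    have hm' : f m ∈ center S := (QuotientGroup.eq_one_iff (f m)).1 hm
    apply eq_one_of_scalar h2
    intro i j
    obtain ⟨π, hs, hij⟩ := GH.RankLie.htr5 i j
    obtain ⟨s, hs'⟩ := hπ π hs
    have h3 := congrArg (fun g => (ι g).1) ((mem_center_iff.1 hm') s)
    simp only [map_mul, Matrix.SpecialLinearGroup.coe_mul, hf] at h3
    rw [hs', dg_apply] at h3
    have h5 := (GH.RankLie.mm_comm_iff (fun i h0 => by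
      have := dv_sq (K := K) m i
      rw [h0, mul_zero] at this
      exact zero_ne_one this) h3.symm).1 i
    rw [hij] at h5
    exact h5
  · intro s
    funext i
    exact Int.units_sq (s i)
  · rw [Nat.card_eq_fintype_card]
    rfl

theorem psl_five [Finite K] (h2 : (2 : K) ≠ 0) :
    ¬ PRankLE 2 3 (Matrix.ProjectiveSpecialLinearGroup (Fin 5) K) :=
  main_five h2 (MonoidHom.id _) (dg K) (fun _ => rfl) (fun π h => ⟨GH.RankLie.pm K π h, rfl⟩)

theorem psu_five [Finite K] (h2 : (2 : K) ≠ 0) {q : ℕ} (hq : Odd q) : ¬ PRankLE 2 3 (PSU 5 K q) := by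
  have h1 : ∀ m : Fin 4 → ℤˣ, dg K m ∈ SU 5 K q := by
    intro m u v
    rw [slToMat_apply, dg_apply]
    refine mm_herm (fun i => ?_) _ u v
    obtain ⟨r, hr⟩ := hq.add_one
    rw [hr, ← two_mul, pow_mul, pow_two, dv_sq, one_pow]
  have h3 : ∀ (π : Equiv.Perm (Fin 5)) (h : Equiv.Perm.sign π = 1), GH.RankLie.pm K π h ∈ SU 5 K q := by
    intro π h u v
    rw [slToMat_apply]
    exact mm_herm (fun i => one_pow _) _ u v
  exact main_five h2 (SU 5 K q).subtype ((dg K).codRestrict (SU 5 K q) h1) (fun _ => rfl)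
    (fun π h => ⟨⟨GH.RankLie.pm K π h, h3 π h⟩, rfl⟩)

end five

theorem two_ne_zero_of_odd {K : Type*} [Field K] [Fintype K] (h : Odd (Fintype.card K)) : (2 : K) ≠ 0 := by
  intro h2
  have h3 : ringChar K = 2 := CharP.ringChar_of_prime_eq_zero Nat.prime_two (by exact_mod_cast h2)
  have h4 := FiniteField.even_card_of_char_two h3
  rw [Nat.odd_iff] at h
  omega

theorem l5 (h : IsL5odd X) : ¬ PRankLE 2 3 X := by
  obtain ⟨F, _, _, hF, ⟨e⟩⟩ := h
  exact FilterSpor.congr e (psl_five (two_ne_zero_of_odd (by rw [Nat.odd_iff]; omega)))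

theorem u5 (h : IsU5odd X) : ¬ PRankLE 2 3 X := by
  obtain ⟨F, _, _, q, hF, hq, ⟨e⟩⟩ := h
  have hq' : Odd q := by rw [Nat.odd_iff]; omega
  exact FilterSpor.congr e (psu_five (two_ne_zero_of_odd (by rw [hF]; exact hq'.pow)) hq')

end Cfsg.Agent.RankThree.FilterLie
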