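import Cfsg.Agent.RankThree.Assemble
import Cfsg.Agent.RankThree.FilterSpor
import Cfsg.Agent.RankThree.FilterCover
import Cfsg.Agent.RankThree.FilterLie
import Cfsg.Agent.RankThree.ExtraFive

/-!
# S1730: the filter, groups of sectional 2-rank at most 4 and 2-rank exactly 3
-/

set_option autoImplicit false

open Cfsg Cfsg.Agent.GH.Defs

namespace Cfsg.Agent.RankThree.Filter

universe u

variable {X : Type u} [Group X]

theorem sp4 (h : IsSp4odd X) : ¬ PRankLE 2 3 X := by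
  obtain ⟨F, _, _, hF, ⟨e⟩⟩ := h
  exact FilterSpor.congr e (ExtraLie.psp_four (FilterLie.two_ne_zero_of_odd hF))

theorem l4 (h : IsL4odd X) : ¬ PRankLE 2 3 X := by
  obtain ⟨F, _, _, hF, -, ⟨e⟩⟩ := h
  exact FilterSpor.congr e (ExtraLie.psl_four (FilterLie.two_ne_zero_of_odd hF))

theorem u4 (h : IsU4odd X) : ¬ PRankLE 2 3 X := by
  obtain ⟨F, _, _, q, hF, hq, -, ⟨e⟩⟩ := h
  have h2 : (2 : F) ≠ 0 := FilterLie.two_ne_zero_of_odd (by rw [hF]; exact hq.pow)
  exact FilterSpor.congr e (ExtraLie.psu_four h2 hq)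

/-- **(FILTER)** -/
theorem main : Assemble.PropFilter.{u} := by
  intro G _ _ h3 h2 h
  rcases h with h | h | h | h | ⟨n, hn, -, h⟩ | h | h | h | h | h | ⟨h, -⟩ | ⟨h, -⟩ | h | h | h | h |
    h | h
  · exact absurd (FilterSpor.u34 h) h2
  · rcases h with h | h | h | h
    · obtain ⟨F, i, j, hF, e⟩ := h
      exact Or.inr (Or.inr (Or.inr (Or.inl ⟨F, i, j, hF, Or.inl e⟩)))
    · obtain ⟨F, i, j, hF, e⟩ := h
      exact Or.inr (Or.inr (Or.inr (Or.inl ⟨F, i, j, hF, Or.inr (Or.inl e)⟩)))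
    · exact Or.inr (Or.inr (Or.inl h))
    · exact Or.inr (Or.inr (Or.inr (Or.inr (Or.inl h))))
  · exact absurd h3 (FilterLie.l216 h)
  · exact absurd h3 (FilterLie.l34 h)
  · exact absurd h3 (FilterSpor.alt hn h)
  · exact absurd h3 (sp4 h)
  · exact absurd h3 (l4 h)
  · exact absurd h3 (u4 h)
  · exact absurd h3 (FilterLie.l5 h)
  · exact absurd h3 (FilterLie.u5 h)
  · exact Or.inl h
  · exact Or.inr (Or.inl h)
  · exact Or.inr (Or.inr (Or.inr (Or.inr (Or.inr (Or.inl h)))))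
  · exact absurd h3 (FilterSpor.m22 h)
  · exact absurd h3 (FilterSpor.m23 h)
  · exact absurd h3 (FilterSpor.j2 h)
  · exact absurd h3 (FilterSpor.j3 h)
  · exact absurd h3 (FilterCover.altCover h)

end Cfsg.Agent.RankThree.Filter
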