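import Cfsg.Agent.RankThree.Assemble
import Cfsg.Agent.GH.FinalInputs

/-!
# S1730: the simple groups of sectional 2-rank at most 4, plugged in
-/

set_option autoImplicit false

open Cfsg.Agent.GH.Defs Cfsg.Agent.GH.AssemblyK4

namespace Cfsg.Agent.RankThree.GHPlug

universe u

/-- `PropGH` from the theorem `Hyp G → GType G ∨ K4r G` and the statements `Stmts`. -/
theorem propGH_of (I : Cfsg.Agent.GH.FinalInputs.Stmts.{u})
    (hGH : ∀ (G : Type u) [Group G] [Finite G], Hyp G → GType G ∨ K4r G) : Assemble.PropGH.{u} :=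
  fun G _ _ _ hna hr h4 =>
    ((Cfsg.Agent.GH.FinalInd.k4_aux (Cfsg.Agent.GH.FinalInputs.k2 I)
      (Cfsg.Agent.GH.FinalInputs.inputs I) hGH _ G rfl inferInstance hna h4).2 hr).2

end Cfsg.Agent.RankThree.GHPlug
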