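import Cfsg.Agent.RankThree.Assemble
import Cfsg.Agent.ONType.CzPlug

/-!
# S1730: the O'Nan branch
-/

set_option autoImplicit false

namespace Cfsg.Agent.RankThree.On

universe u

theorem propON : Assemble.PropON.{u} :=
  fun _ _ _ _ _ _ _ F => Cfsg.Agent.ONType.Cz.frame_of F

end Cfsg.Agent.RankThree.On
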