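import Mathlib
import Cfsg.Agent.RankThree.Assemble
import Cfsg.Agent.TypeU3Sz.Main
import Cfsg.Agent.SectRankFour.Rank

/-!
# S1730: the groups of Bender type of 2-rank exactly 3 are `L₂(8)`, `Sz(8)` and `U₃(8)`
-/

set_option autoImplicit false

open Cfsg

namespace Cfsg.Agent.RankThree.StrongE

open Cfsg.Agent.TypeU3Sz.Main

universe u

/-- The 2-rank of a group in which all involutions of a Sylow 2-subgroup are central in it. -/
theorem rank_iff {M : Type*} [Group M] [Finite M] {q : ℕ} (S : Sylow 2 M)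
    (hc : ∀ x y : (S : Subgroup M), x * x = 1 → x * y = y * x)
    (hq : Nat.card {x : (S : Subgroup M) // x * x = 1} = q) (k : ℕ) : Cfsg.PRankLE 2 k M ↔ q ≤ 2 ^ k := by
  have h2 : Fact (Nat.Prime 2) := ⟨Nat.prime_two⟩
  have hcard : Nat.card (omega (S : Subgroup M) hc) = q := by
    rw [← hq]
    refine Nat.card_congr ⟨fun x => ⟨⟨x.1, x.2.1⟩, Subtype.ext x.2.2⟩,
      fun x => ⟨x.1.1, x.1.2, congrArg Subtype.val x.2⟩, fun x => rfl, fun x => rfl⟩
  constructor
  · intro h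
    rw [← hcard]
    refine h _ (isMulCommutative_omega _ hc) ?_
    intro a ha
    rw [pow_two]
    exact ha.2
  · intro h A hA hA2
    have hAp : IsPGroup 2 A := fun a => ⟨1, Subtype.ext (by simpa using hA2 a a.2)⟩
    obtain ⟨T, hT⟩ := hAp.exists_le_sylow
    obtain ⟨g, hg⟩ := MulAction.exists_smul_eq M T S
    have hle : A.map (MulAut.conj g).toMonoidHom ≤ omega (S : Subgroup M) hc := by
      rintro _ ⟨a, ha, rfl⟩
      refine ⟨?_, ?_⟩
      · rw [← hg]
        exact ⟨a, hT ha, rfl⟩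
      · rw [← map_mul, ← pow_two, hA2 a ha, map_one]
    calc Nat.card A = Nat.card (A.map (MulAut.conj g).toMonoidHom) :=
          Nat.card_congr (A.equivMapOfInjective _ (MulAut.conj g).injective).toEquiv
      _ ≤ Nat.card (omega (S : Subgroup M) hc) := Subgroup.card_le_of_le hle
      _ = q := hcard
      _ ≤ 2 ^ k := h

theorem prank_congr {M N : Type*} [Group M] [Group N] (e : M ≃* N) {k : ℕ} (h : Cfsg.PRankLE 2 k M) :
    Cfsg.PRankLE 2 k N := by
  intro A hA hA2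
  rw [Nat.card_congr (A.equivMapOfInjective e.symm.toMonoidHom e.symm.injective).toEquiv]
  refine h _ ⟨⟨?_⟩⟩ ?_
  · rintro ⟨_, a, ha, rfl⟩ ⟨_, b, hb, rfl⟩
    apply Subtype.ext
    show e.symm a * e.symm b = e.symm b * e.symm a
    rw [← map_mul, ← map_mul]
    exact congrArg _ (congrArg Subtype.val (hA.is_comm.comm ⟨a, ha⟩ ⟨b, hb⟩))
  · rintro _ ⟨a, ha, rfl⟩
    rw [← map_pow, hA2 a ha, map_one]

/-- The Sylow 2-subgroups of `PSL₂(2^n)`. -/
theorem psl_facts {F : Type*} [Field F] [Fintype F] {n : ℕ} (hn : 1 ≤ n) (hF : Fintype.card F = 2 ^ n)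
    (S : Sylow 2 (Matrix.ProjectiveSpecialLinearGroup (Fin 2) F)) :
    (∀ x y : (S : Subgroup (Matrix.ProjectiveSpecialLinearGroup (Fin 2) F)), x * x = 1 → x * y = y * x) ∧
      Nat.card {x : (S : Subgroup (Matrix.ProjectiveSpecialLinearGroup (Fin 2) F)) // x * x = 1} = 2 ^ n := by
  have h2 : Fact (Nat.Prime 2) := ⟨Nat.prime_two⟩
  have hchar : CharP F 2 := Cfsg.Agent.SectRankFour.Rank.char_two_of_even (by
    rw [hF]; exact Nat.even_pow.2 ⟨even_two, by omega⟩)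
  have hcomm := Cfsg.Agent.Classification.PSLTwoEvenSylow.sylow_comm (MulEquiv.refl _) S
  let f : Multiplicative F →* Matrix.ProjectiveSpecialLinearGroup (Fin 2) F :=
    Cfsg.Agent.Classification.PSLTwoEvenSylow.uniP
  have hf : Function.Injective f := Cfsg.Agent.Classification.PSLTwoEvenSylow.uniP_injective
  have hcardU : Nat.card f.range = 2 ^ n := by
    rw [← Nat.card_congr (MonoidHom.ofInjective hf).toEquiv]
    rw [← hF, ← Nat.card_eq_fintype_card]
    exact Nat.card_congr Multiplicative.toAdd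
  have hU : IsPGroup 2 f.range := IsPGroup.of_card hcardU
  have hcardG : Nat.card (Matrix.ProjectiveSpecialLinearGroup (Fin 2) F) = 2 ^ n * ((2 ^ n) ^ 2 - 1) := by
    rw [Cfsg.Agent.Classification.PSLTwoEvenSylow.card_psl, hF]
  have hidx : ¬ 2 ∣ f.range.index := by
    have h1 := f.range.card_mul_index
    rw [hcardU, hcardG] at h1
    have h3 := Nat.eq_of_mul_eq_mul_left (by positivity) h1
    rw [h3]
    have h4 : 2 ∣ (2 ^ n) ^ 2 := by
      rw [← pow_mul]; exact dvd_pow_self 2 (by omega)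
    have h5 : 1 ≤ (2 ^ n) ^ 2 := Nat.one_le_iff_ne_zero.mpr (by positivity)
    omega
  let P : Sylow 2 (Matrix.ProjectiveSpecialLinearGroup (Fin 2) F) := hU.toSylow hidx
  let e := Sylow.equiv S P
  have hsq : ∀ x : (S : Subgroup (Matrix.ProjectiveSpecialLinearGroup (Fin 2) F)), x * x = 1 := by
    intro x
    apply e.injective
    rw [map_mul, map_one]
    obtain ⟨y, hy⟩ : ((e x : P) : Matrix.ProjectiveSpecialLinearGroup (Fin 2) F) ∈ f.range := (e x).2
    apply Subtype.ext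
    show ((e x : P) : Matrix.ProjectiveSpecialLinearGroup (Fin 2) F) * (e x : P) = 1
    rw [← hy, ← map_mul]
    have h6 : y * y = 1 := CharTwo.add_self_eq_zero (Multiplicative.toAdd y)
    rw [h6, map_one]
  refine ⟨fun x y _ => hcomm.is_comm.comm x y, ?_⟩
  rw [Nat.card_congr (Equiv.subtypeUnivEquiv hsq), Nat.card_congr e.toEquiv]
  exact hcardU

theorem eq_three {n : ℕ} (h3 : 2 ^ n ≤ 2 ^ 3) (h2 : ¬ 2 ^ n ≤ 2 ^ 2) : n = 3 := by
  have h4 : n ≤ 3 := (Nat.pow_le_pow_iff_right (by norm_num)).1 h3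
  have h5 : ¬ n ≤ 2 := fun h => h2 ((Nat.pow_le_pow_iff_right (by norm_num)).2 h)
  omega

theorem exists_field_eight : ∃ (F : Type) (_ : Field F) (_ : Fintype F), Fintype.card F = 8 := by
  have h2 : Fact (Nat.Prime 2) := ⟨Nat.prime_two⟩
  let instF : Fintype (GaloisField 2 3) := Fintype.ofFinite _
  refine ⟨GaloisField 2 3, inferInstance, instF, ?_⟩
  rw [← Nat.card_eq_fintype_card, GaloisField.card 2 3 (by norm_num)]
  norm_num

theorem case_psl {G : Type*} [Group G] [Finite G] (h3 : Cfsg.PRankLE 2 3 G) (h2 : ¬ Cfsg.PRankLE 2 2 G)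
    {F : Type*} [Field F] [Fintype F] {n : ℕ} (hn : 1 ≤ n) (hF : Fintype.card F = 2 ^ n)
    (e : G ≃* Matrix.ProjectiveSpecialLinearGroup (Fin 2) F) : n = 3 := by
  have hfin : Finite (Matrix.ProjectiveSpecialLinearGroup (Fin 2) F) := Finite.of_equiv G e.toEquiv
  let S : Sylow 2 (Matrix.ProjectiveSpecialLinearGroup (Fin 2) F) := default
  obtain ⟨k1, k2⟩ := psl_facts hn hF S
  have hr := rank_iff S k1 k2
  exact eq_three ((hr 3).1 (prank_congr e h3)) (fun h => h2 (prank_congr e.symm ((hr 2).2 h)))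

theorem case_sz {G : Type*} [Group G] [Finite G] (h3 : Cfsg.PRankLE 2 3 G) (h2 : ¬ Cfsg.PRankLE 2 2 G)
    {F : Type*} [Field F] [Fintype F] {m : ℕ} (hm : 1 ≤ m) (hF : Fintype.card F = 2 ^ (2 * m + 1))
    (e : G ≃* Cfsg.Lie.Sz F (2 ^ (m + 1))) : 2 * m + 1 = 3 := by
  have hfin : Finite (Cfsg.Lie.Sz F (2 ^ (m + 1))) := Finite.of_equiv G e.toEquiv
  let S : Sylow 2 (Cfsg.Lie.Sz F (2 ^ (m + 1))) := default
  have ht := ty_sz hm hF S
  have hr := rank_iff S ht.comm ht.inv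
  exact eq_three ((hr 3).1 (prank_congr e h3)) (fun h => h2 (prank_congr e.symm ((hr 2).2 h)))

theorem case_psu {G : Type*} [Group G] [Finite G] (h3 : Cfsg.PRankLE 2 3 G) (h2 : ¬ Cfsg.PRankLE 2 2 G)
    {F : Type*} [Field F] [Fintype F] {n : ℕ} (hn : 1 ≤ n) (hF : Fintype.card F = (2 ^ n) ^ 2)
    (e : G ≃* Cfsg.PSU 3 F (2 ^ n)) : n = 3 := by
  have hfin : Finite (Cfsg.PSU 3 F (2 ^ n)) := Finite.of_equiv G e.toEquiv
  let S : Sylow 2 (Cfsg.PSU 3 F (2 ^ n)) := default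
  have ht := ty_psu hn (by rw [Nat.card_eq_fintype_card, hF]) S
  have hr := rank_iff S ht.comm ht.inv
  exact eq_three ((hr 3).1 (prank_congr e h3)) (fun h => h2 (prank_congr e.symm ((hr 2).2 h)))

/-- The groups of Bender type of 2-rank exactly 3. -/
theorem concl_of {G : Type u} [Group G] [Finite G] (h : TypeU3Sz.Main.Concl G) (h3 : Cfsg.PRankLE 2 3 G)
    (h2 : ¬ Cfsg.PRankLE 2 2 G) : Assemble.Concl G := by
  right; right; right; left
  rcases h with ⟨F, i1, i2, ⟨n, hn, hF⟩, ⟨e⟩⟩ | ⟨F, i1, i2, m, hm, hF, ⟨e⟩⟩ | ⟨F, i1, i2, n, hn, hF, ⟨e⟩⟩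
  · have hn3 : n = 3 := case_psl h3 h2 (by omega) hF e
    subst hn3
    exact ⟨F, i1, i2, by rw [hF]; norm_num, Or.inl ⟨e⟩⟩
  · have hm3 : 2 * m + 1 = 3 := case_sz h3 h2 hm hF e
    have hm1 : m = 1 := by omega
    subst hm1
    exact ⟨F, i1, i2, by rw [hF]; norm_num, Or.inr (Or.inl ⟨e⟩)⟩
  · have hn3 : n = 3 := case_psu h3 h2 (by omega) hF e
    subst hn3
    obtain ⟨F₈, j1, j2, h8⟩ := exists_field_eight
    exact ⟨F₈, j1, j2, h8, Or.inr (Or.inr ⟨F, i1, i2, by rw [hF]; norm_num, ⟨e⟩⟩)⟩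

/-- (SE) from Bender's theorem. -/
theorem propSE_of (hB : ∀ (X : Type u) [Group X] [Finite X] [IsSimpleGroup X], (∃ a b : X, a * b ≠ b * a) →
    ∀ H : Subgroup X, Cfsg.IsStronglyEmbedded H → TypeU3Sz.Main.Concl X) : Assemble.PropSE.{u} := by
  intro G _ _ _ hG h3 h2 ⟨H, hH⟩
  have hna : ∃ a b : G, a * b ≠ b * a := by
    by_contra hcon
    push Not at hcon
    exact hG ⟨⟨hcon⟩⟩
  exact concl_of (hB G hna H hH) h3 h2

end Cfsg.Agent.RankThree.StrongE
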