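import Cfsg.Agent.RankThree.StrongE
import Cfsg.Agent.StrongEmb.Strong

/-!
# S1730: `PropSE`
-/

set_option autoImplicit false

namespace Cfsg.Agent.RankThree.StrongEMain

universe u

/-- (SE) a simple group of 2-rank exactly 3 with a strongly embedded subgroup is `L₂(8)`, `Sz(8)` or `U₃(8)`. -/
theorem propSE : Assemble.PropSE.{u} :=
  StrongE.propSE_of fun _ _ _ _ hna H hH => Cfsg.Agent.StrongEmb.Strong.result hna H hH

end Cfsg.Agent.RankThree.StrongEMain
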